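import Cfsg.Prelude.Def_LieExceptional
import Cfsg.Agent.Lib.PGroups.Basic
import Cfsg.Agent.Lib.Base.MinimalNormal
import Cfsg.Agent.Lib.Coprime.Action
import Cfsg.Agent.Lib.OddOrder.FittingHall

/-!
# CN-groups: quotients by solvable normal subgroups
-/

set_option autoImplicit false

namespace CfsgLib.CNGroups

open Subgroup

universe u

variable {G : Type u} [Group G]

theorem isNilpotent_of_le {H K : Subgroup G} (hHK : H ≤ K) [Group.IsNilpotent K] :
    Group.IsNilpotent H :=
  Group.isNilpotent_congr (Subgroup.subgroupOfEquivOfLe hHK) |>.mp inferInstance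

/-- Elements of coprime order in a nilpotent subgroup commute. -/
theorem commute_of_coprime [Finite G] {H : Subgroup G} (hH : Group.IsNilpotent H) {a b : G}
    (ha : a ∈ H) (hb : b ∈ H) (h : (orderOf a).Coprime (orderOf b)) : Commute a b := by
  have := CfsgLib.OddOrder.commute_of_coprime_aux (N := H) (a := ⟨a, ha⟩) (b := ⟨b, hb⟩)
    (by rwa [← Subgroup.orderOf_coe, ← Subgroup.orderOf_coe])
  exact congrArg Subtype.val this.eq

theorem isCNGroup_congr {G' : Type*} [Group G'] (e : G ≃* G') (h : Cfsg.IsCNGroup G) :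
    Cfsg.IsCNGroup G' := by
  intro g hg
  have hne : e.symm g ≠ 1 := fun h1 => hg (e.symm.injective (h1.trans (map_one e.symm).symm))
  haveI := h _ hne
  have hmap : (centralizer ({e.symm g} : Set G)).map e.toMonoidHom = centralizer ({g} : Set G') := by
    ext x
    constructor
    · rintro ⟨y, hy, rfl⟩
      rw [mem_centralizer_singleton_iff]
      simpa using congrArg e (mem_centralizer_singleton_iff.mp hy)
    · intro hx
      refine ⟨e.symm x, ?_, e.apply_symm_apply x⟩
      rw [SetLike.mem_coe, mem_centralizer_singleton_iff, ← map_mul, ← map_mul,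
        mem_centralizer_singleton_iff.mp hx]
  rw [← hmap]
  exact (Group.isNilpotent_congr (Subgroup.equivMapOfInjective _ _ e.injective)).mp inferInstance

variable [Finite G]

/-- The centraliser of an element of prime order in the quotient by a normal p-subgroup. -/
theorem isNilpotent_centralizer_prime (hCN : Cfsg.IsCNGroup G) {N : Subgroup G} [N.Normal]
    {p : ℕ} [hp : Fact p.Prime] (hN : IsPGroup p N) (hne : N ≠ ⊥) {q : ℕ} (hq : q.Prime)
    (t : G ⧸ N) (ht : orderOf t = q) : Group.IsNilpotent (centralizer ({t} : Set (G ⧸ N))) := by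
  classical
  haveI := Fact.mk hq
  set f := QuotientGroup.mk' N with hf
  have hfs : Function.Surjective f := QuotientGroup.mk'_surjective N
  set K := (centralizer ({t} : Set (G ⧸ N))).comap f with hK
  have hsurj : ∀ H : Subgroup G, Group.IsNilpotent H → H.map f = centralizer ({t} : Set (G ⧸ N)) →
      Group.IsNilpotent (centralizer ({t} : Set (G ⧸ N))) := by
    intro H hH hmap
    rw [← hmap]
    exact Group.nilpotent_of_surjective (f.subgroupMap H) (f.subgroupMap_surjective H)
  have hfix : ∀ {k : G}, k ∈ K → ∀ {y : G}, f y ∈ zpowers t → k⁻¹ * (y * k * y⁻¹) ∈ N := by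
    intro k hk y hy
    rw [← QuotientGroup.eq_one_iff, ← QuotientGroup.mk'_apply, ← hf]
    obtain ⟨i, hi⟩ := mem_zpowers_iff.mp hy
    have hc : Commute (f k) t := mem_centralizer_singleton_iff.mp hk
    rw [map_mul, map_mul, map_mul, map_inv, map_inv, ← hi, ← (hc.zpow_right i).eq]
    group
  by_cases hpq : q = p
  · subst hpq
    obtain ⟨x, rfl⟩ := hfs t
    have hx1 : x ∉ N := fun h => hq.ne_one (by
      rw [← ht, show f x = 1 from (QuotientGroup.eq_one_iff x).mpr h, orderOf_one])
    set X := (zpowers (f x)).comap f with hX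
    have hxX : x ∈ X := mem_zpowers _
    have hXK : X ≤ K := by
      intro y hy
      obtain ⟨i, hi⟩ := mem_zpowers_iff.mp hy
      rw [hK, mem_comap, mem_centralizer_singleton_iff, ← hi]
      exact ((Commute.refl (f x)).zpow_left i).eq
    have hXp : IsPGroup q X := by
      rintro ⟨y, hy⟩
      obtain ⟨i, hi⟩ := mem_zpowers_iff.mp hy
      have h1 : y ^ q ∈ N := by
        rw [← QuotientGroup.eq_one_iff, ← QuotientGroup.mk'_apply, ← hf, map_pow, ← hi,
          ← zpow_natCast, zpow_comm, zpow_natCast, ← ht, pow_orderOf_eq_one, one_zpow]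
      obtain ⟨j, hj⟩ := hN ⟨_, h1⟩
      refine ⟨1 + j, Subtype.ext ?_⟩
      have hj' : (y ^ q) ^ q ^ j = 1 := congrArg Subtype.val hj
      show y ^ q ^ (1 + j) = 1
      rw [pow_add, pow_one, pow_mul, hj']
    have hNX : N ≤ X := fun y hy => by
      rw [hX, mem_comap, show f y = 1 from (QuotientGroup.eq_one_iff y).mpr hy]
      exact one_mem _
    have hKX : K ≤ normalizer (X : Set G) := by
      intro k hk
      rw [Subgroup.mem_normalizer_iff]
      intro y
      have hc : Commute (f k) (f x) := mem_centralizer_singleton_iff.mp hk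
      have key : ∀ z : G ⧸ N, z ∈ zpowers (f x) → f k * z * (f k)⁻¹ = z ∧ (f k)⁻¹ * z * f k = z := by
        intro z hz
        obtain ⟨i, rfl⟩ := mem_zpowers_iff.mp hz
        have := (hc.zpow_right i).eq
        exact ⟨by rw [this]; group, by rw [mul_assoc, ← this]; group⟩
      constructor
      · intro hy
        show f (k * y * k⁻¹) ∈ zpowers (f x)
        rw [map_mul, map_mul, map_inv, (key _ hy).1]
        exact hy
      · intro hy
        have hy' : f (k * y * k⁻¹) ∈ zpowers (f x) := hy
        show f y ∈ zpowers (f x)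
        have := (key _ hy').2
        rw [map_mul, map_mul, map_inv] at this hy'
        convert hy' using 1
        rw [← this]; group
    set Z := N ⊓ centralizer (X : Set G) with hZ
    -- `N` meets the centre of `X`
    haveI : (N.subgroupOf X).Normal := inferInstance
    have hNX' : N.subgroupOf X ≠ ⊥ := by
      rw [Ne, subgroupOf_eq_bot, disjoint_iff, inf_of_le_left hNX]
      exact hne
    have hZne : Z ≠ ⊥ := by
      intro h
      refine CfsgLib.PGroups.inf_center_ne_bot hXp hNX' (le_bot_iff.mp fun y hy => ?_)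
      have : (y : G) ∈ Z := ⟨hy.1, mem_centralizer_iff.mpr fun w hw =>
        congrArg Subtype.val (mem_center_iff.mp hy.2 ⟨w, hw⟩)⟩
      rw [h, mem_bot] at this
      exact mem_bot.mpr (Subtype.ext this)
    have hKZ : K ≤ normalizer (Z : Set G) :=
      CfsgLib.Coprime.le_normalizer_inf_inf (by rw [normalizer_eq_top]; exact le_top)
        (CfsgLib.Coprime.le_normalizer_centralizer hKX)
    obtain ⟨P₀⟩ : Nonempty (Sylow q K) := inferInstance
    set P := (P₀ : Subgroup K).map K.subtype with hP
    have hPp : IsPGroup q P := P₀.2.map _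
    have hPK : P ≤ K := map_subtype_le _
    have hXP : X ≤ P := by
      haveI : (X.comap K.subtype).Normal := normal_subgroupOf_of_le_normalizer hKX
      have h := (IsPGroup.le_sylow_of_normal (hXp.comap_subtype (K := K)) P₀ :
        X.subgroupOf K ≤ (P₀ : Subgroup K))
      intro y hy
      exact ⟨⟨y, hXK hy⟩, h hy, rfl⟩
    have hZP : Z ≤ P := inf_le_left.trans (hNX.trans hXP)
    haveI : (Z.subgroupOf P).Normal := normal_subgroupOf_of_le_normalizer (hPK.trans hKZ)
    have hZP' : Z.subgroupOf P ≠ ⊥ := by
      rw [Ne, subgroupOf_eq_bot, disjoint_iff, inf_of_le_left hZP]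
      exact hZne
    obtain ⟨z, hz, hz1⟩ := (Subgroup.bot_or_exists_ne_one _).resolve_left
      (CfsgLib.PGroups.inf_center_ne_bot hPp hZP')
    have hz' : (z : G) ≠ 1 := fun h => hz1 (Subtype.ext h)
    have hzZ : (z : G) ∈ Z := hz.1
    have hPC : P ≤ centralizer ({(z : G)} : Set G) := by
      intro y hy
      rw [mem_centralizer_singleton_iff]
      exact congrArg Subtype.val (mem_center_iff.mp hz.2 ⟨y, hy⟩)
    set C := centralizer ({(z : G)} : Set G) with hC
    haveI hCnil : Group.IsNilpotent C := hCN _ hz'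
    have hKC : K ≤ C := by
      rw [← subgroupOf_eq_top, ← index_eq_one]
      by_contra hidx
      obtain ⟨r, hr, hrd⟩ := Nat.exists_prime_and_dvd hidx
      haveI := Fact.mk hr
      by_cases hrq : r = q
      · subst hrq
        exact P₀.not_dvd_index (hrd.trans (index_dvd_of_le fun y hy => hPC ⟨y, hy, rfl⟩))
      obtain ⟨R⟩ : Nonempty (Sylow r K) := inferInstance
      refine R.not_dvd_index (hrd.trans (index_dvd_of_le fun k hk => ?_))
      obtain ⟨s, hs⟩ := IsPGroup.iff_orderOf.mp R.2 ⟨k, hk⟩
      have hs' : orderOf (k : G) = r ^ s := by rw [← hs, Subgroup.orderOf_mk, Subgroup.orderOf_coe]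
      have hcop : (Nat.card (zpowers (k : G))).Coprime (Nat.card N) := by
        obtain ⟨n, hn⟩ := IsPGroup.iff_card.mp hN
        rw [Nat.card_zpowers, hs', hn]
        exact Nat.coprime_pow_primes _ _ hr hq hrq
      have hfx : ∀ a ∈ zpowers (k : G), x⁻¹ * (a * x * a⁻¹) ∈ N := by
        intro a ha
        rw [← QuotientGroup.eq_one_iff, ← QuotientGroup.mk'_apply, ← hf]
        obtain ⟨i, rfl⟩ := mem_zpowers_iff.mp ha
        have hc : Commute (f k) (f x) := mem_centralizer_singleton_iff.mp k.2
        rw [map_mul, map_mul, map_mul, map_inv, map_inv, map_zpow, (hc.zpow_left i).eq]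
        group
      obtain ⟨c, hc, hcN⟩ := CfsgLib.Coprime.exists_centralizing_in_coset
        (A := zpowers (k : G)) (by rw [normalizer_eq_top]; exact le_top) hcop
        (Or.inl inferInstance) hfx
      have hc1 : c ≠ 1 := by
        rintro rfl
        rw [mul_one] at hcN
        exact hx1 (inv_mem_iff.mp hcN)
      have hcX : c ∈ X := by
        have := X.mul_mem hxX (hNX hcN)
        rwa [mul_inv_cancel_left] at this
      haveI := hCN c hc1
      have hkc : (k : G) ∈ centralizer ({c} : Set G) := by
        rw [mem_centralizer_singleton_iff]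
        exact mem_centralizer_iff.mp hc _ (mem_zpowers _)
      have hzc : (z : G) ∈ centralizer ({c} : Set G) := by
        rw [mem_centralizer_singleton_iff]
        exact (mem_centralizer_iff.mp hzZ.2 c hcX).symm
      have hzord : ∃ m, orderOf (z : G) = q ^ m := by
        obtain ⟨m, hm⟩ := IsPGroup.iff_orderOf.mp hN ⟨z, hzZ.1⟩
        exact ⟨m, by rwa [Subgroup.orderOf_mk] at hm⟩
      obtain ⟨m, hm⟩ := hzord
      show (k : G) ∈ C
      rw [hC, mem_centralizer_singleton_iff]
      exact (commute_of_coprime (hCN c hc1) hkc hzc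
        (by rw [hs', hm]; exact Nat.coprime_pow_primes _ _ hr hq hrq)).eq
    exact hsurj K (isNilpotent_of_le hKC) (map_comap_eq_self_of_surjective hfs _)
  · -- choose a lift of order `q`
    obtain ⟨x₀, hx₀⟩ := hfs t
    have h1 : x₀ ^ q ∈ N := by
      rw [← QuotientGroup.eq_one_iff, ← QuotientGroup.mk'_apply, ← hf, map_pow, hx₀, ← ht,
        pow_orderOf_eq_one]
    obtain ⟨j, hj⟩ := hN ⟨_, h1⟩
    have hj' : (x₀ ^ q) ^ p ^ j = 1 := congrArg Subtype.val hj
    set x := x₀ ^ p ^ j with hx
    have hxq : x ^ q = 1 := by rw [hx, ← pow_mul, mul_comm, pow_mul, hj']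
    have hcop : (p ^ j).Coprime (orderOf t) := by
      rw [ht]
      exact Nat.Coprime.pow_left j ((Nat.coprime_primes hp.out hq).mpr (Ne.symm hpq))
    have hzp : zpowers (f x) = zpowers t := by
      refine le_antisymm (zpowers_le.mpr ?_) (zpowers_le.mpr ?_)
      · rw [hx, map_pow, hx₀]; exact pow_mem (mem_zpowers t) _
      · obtain ⟨m, hm⟩ := exists_pow_eq_self_of_coprime hcop
        rw [← hx₀, ← map_pow, ← hx] at hm
        rw [← hx₀]
        exact ⟨m, by simpa using hm⟩
    have hx1 : x ≠ 1 := by
      intro h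
      rw [h, map_one, zpowers_one_eq_bot, eq_comm, zpowers_eq_bot] at hzp
      rw [hzp, orderOf_one] at ht
      exact hq.ne_one ht.symm
    haveI := hCN x hx1
    refine hsurj (centralizer ({x} : Set G) ⊓ K) (isNilpotent_of_le inf_le_left)
      (le_antisymm ((map_mono inf_le_right).trans (map_comap_le _ _)) fun c hc => ?_)
    obtain ⟨k, rfl⟩ := hfs c
    have hk : k ∈ K := hc
    have hcop' : (Nat.card (zpowers x)).Coprime (Nat.card N) := by
      obtain ⟨n, hn⟩ := IsPGroup.iff_card.mp hN
      rw [Nat.card_zpowers, hn]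
      exact ((Nat.coprime_primes hq hp.out).mpr hpq).pow_right n |>.coprime_dvd_left
        (orderOf_dvd_of_pow_eq_one hxq)
    obtain ⟨c', hc', hcN⟩ := CfsgLib.Coprime.exists_centralizing_in_coset
      (A := zpowers x) (k := k) (by rw [normalizer_eq_top]; exact le_top) hcop'
      (Or.inl inferInstance) (fun a ha => hfix hk (by
        rw [← hzp, ← MonoidHom.map_zpowers]; exact mem_map_of_mem f ha))
    have heq : f c' = f k := by
      have : f (k⁻¹ * c') = 1 := (QuotientGroup.eq_one_iff _).mpr hcN
      rwa [map_mul, map_inv, inv_mul_eq_one, eq_comm] at this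
    refine ⟨c', ⟨?_, ?_⟩, heq⟩
    · show c' ∈ centralizer ({x} : Set G)
      rw [mem_centralizer_singleton_iff]
      exact (mem_centralizer_iff.mp hc' _ (mem_zpowers x)).symm
    · show f c' ∈ centralizer ({t} : Set (G ⧸ N))
      rw [heq]; exact hc

/-- The quotient of a CN-group by a nontrivial normal p-subgroup is a CN-group. -/
theorem isCNGroup_quotient_pGroup (hCN : Cfsg.IsCNGroup G) {N : Subgroup G} [N.Normal]
    {p : ℕ} [Fact p.Prime] (hN : IsPGroup p N) (hne : N ≠ ⊥) : Cfsg.IsCNGroup (G ⧸ N) := by
  intro t ht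
  obtain ⟨q, hq, hqd⟩ := Nat.exists_prime_and_dvd (fun h => ht (orderOf_eq_one_iff.mp h))
  obtain ⟨m, hm⟩ := hqd
  have hord : orderOf (t ^ m) = q := by
    rw [orderOf_pow, hm, Nat.gcd_eq_right (Dvd.intro_left q rfl), Nat.mul_div_cancel]
    exact Nat.pos_of_ne_zero fun h => (orderOf_pos t).ne' (by rw [hm, h, mul_zero])
  haveI := isNilpotent_centralizer_prime hCN hN hne hq (t ^ m) hord
  refine isNilpotent_of_le (K := centralizer ({t ^ m} : Set (G ⧸ N))) fun y hy => ?_
  rw [mem_centralizer_singleton_iff] at hy ⊢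
  exact (Commute.pow_right (show Commute y t from hy) m).eq

omit [Finite G] in
/-- The quotient of a CN-group by a solvable normal subgroup is a CN-group. -/
theorem isCNGroup_quotient (n : ℕ) : ∀ {G : Type u} [Group G] [Finite G] (_ : Cfsg.IsCNGroup G)
    (H : Subgroup G) [H.Normal], Group.IsSolvable H → Nat.card G ≤ n → Cfsg.IsCNGroup (G ⧸ H) := by
  induction n with
  | zero =>
    intro G _ _ _ H _ _ h
    exact absurd (Nat.le_zero.mp h) Nat.card_pos.ne'
  | succ n ih =>
    intro G _ _ hCN H _ hH hcard
    by_cases hb : H = ⊥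
    · subst hb
      exact isCNGroup_congr QuotientGroup.quotientBot.symm hCN
    obtain ⟨N, hNH, hN⟩ : ∃ N ≤ H, CfsgLib.Base.IsMinimalNormal N := by
      exact CfsgLib.Base.exists_isMinimalNormal_le hb
    haveI := hN.normal
    have hNs : Group.IsSolvable N :=
      Group.isSolvable_of_isSolvable_injective (f := Subgroup.inclusion hNH) (Subgroup.inclusion_injective hNH)
    obtain ⟨p, hp, -, -, hNp⟩ := hN.exists_prime hNs
    haveI := Fact.mk hp
    have hlt : Nat.card (G ⧸ N) ≤ n := by
      have h1 := N.index_mul_card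
      have h2 : 2 ≤ Nat.card N := by
        have h3 := Nat.card_pos (α := N)
        have h4 : Nat.card N ≠ 1 := fun e => hN.ne_bot (N.eq_bot_of_card_eq e)
        omega
      have h3 : 2 * N.index ≤ Nat.card G := by
        rw [← h1, mul_comm N.index]; exact Nat.mul_le_mul_right _ h2
      have h4 : 0 < N.index := Nat.pos_of_ne_zero Subgroup.index_ne_zero_of_finite
      rw [← Subgroup.index_eq_card]
      omega
    have hS : Group.IsSolvable (H.map (QuotientGroup.mk' N)) :=
      Group.isSolvable_of_surjective (f := (QuotientGroup.mk' N).subgroupMap H)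
        ((QuotientGroup.mk' N).subgroupMap_surjective H)
    exact isCNGroup_congr (QuotientGroup.quotientQuotientEquivQuotient N H hNH)
      (ih (isCNGroup_quotient_pGroup hCN hNp hN.ne_bot) (H.map (QuotientGroup.mk' N)) hS hlt)

end CfsgLib.CNGroups
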