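import Cfsg.Agent.Lib.CNGroups.LinearTI
import Cfsg.Agent.S1527

/-!
# No odd-order group is covered by several TI Frobenius kernels
Feit-Hall-Thompson's contradiction, from equal-degree exceptional characters, a parity count
and Bessel's inequality.
-/

set_option autoImplicit false
set_option linter.style.haveILetI false
set_option linter.unusedSectionVars false

namespace CfsgLib.CNGroups

open Cfsg CfsgLib.Chars
open scoped ComplexConjugate

universe u

/-- The numerical contradiction. -/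
theorem cover_arith {ι : Type*} [Fintype ι] [DecidableEq ι] (g : ℕ) (e n h : ι → ℕ)
    (R : ι → ι → Prop) [DecidableRel R] [Nonempty ι]
    (he : ∀ i, 3 ≤ e i) (heodd : ∀ i, Odd (e i)) (hn : ∀ i, 2 ≤ n i) (hneven : ∀ i, Even (n i))
    (hdvd : ∀ i, n i * e i + 1 ∣ h i) (hpos : ∀ i, 0 < h i)
    (hprime : ∀ i, (n i * e i + 1).Prime → h i = n i * e i + 1)
    (hcop : ∀ i j, i ≠ j → (h i).Coprime (h j))
    (hex : ∀ j : ι, ∃ i : ι, i ≠ j) (hg : ∀ i j, i ≠ j → h i * h j ≤ g)
    (hsum : ∑ i, ((h i : ℝ) - 1) / ((e i : ℝ) * h i) = 1 - 1 / (g : ℝ))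
    (hR : ∀ i j, i ≠ j → R i j ∨ R j i)
    (hout : ∀ i, (∑ j ∈ (Finset.univ.erase i).filter (fun j => R i j), n j) + 1 ≤ e i)
    (hin : ∀ j, ∑ i ∈ (Finset.univ.erase j).filter (fun i => R i j),
      (n i : ℝ) / ((n i : ℝ) * e i + 1) ≤ (e j : ℝ) / ((n j : ℝ) * e j + 1)) : False := by
  obtain ⟨j, -, hmin⟩ := Finset.exists_min_image Finset.univ e Finset.univ_nonempty
  have hmin' : ∀ i, e j ≤ e i := fun i => hmin i (Finset.mem_univ i)
  set E : ℕ := if n j = 2 then e j + 2 else e j with hE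
  have hE' : ∀ i, i ≠ j → 2 * E ≤ n i * e i := by
    intro i hi
    rw [hE]
    split
    · next h2 =>
      rcases (show n i = 2 ∨ 4 ≤ n i by
        have := hn i; obtain ⟨k, hk⟩ := hneven i; omega) with hi2 | hi4
      · have hne : e i ≠ e j := by
          intro he'
          have h1 : n j * e j + 1 ∣ h i := by
            have := hdvd i
            rwa [hi2, he', ← h2] at this
          have := Nat.eq_one_of_dvd_coprimes (hcop i j hi) h1 (hdvd j)
          have h3 := he j; rw [h2] at this; omega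
        obtain ⟨a, ha⟩ := heodd i
        obtain ⟨b, hb⟩ := heodd j
        have := hmin' i
        rw [hi2]; omega
      · have := hmin' i
        have := he i
        calc 2 * (e j + 2) ≤ 4 * e i := by omega
          _ ≤ n i * e i := Nat.mul_le_mul_right _ hi4
    · exact Nat.mul_le_mul (hn i) (hmin' i)
  set ej : ℝ := (e j : ℝ) with hej
  have hej3 : (3 : ℝ) ≤ ej := by rw [hej]; exact_mod_cast he j
  have hEpos : (3 : ℝ) ≤ (E : ℝ) := by
    have : 3 ≤ E := by rw [hE]; have := he j; split <;> omega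
    exact_mod_cast this
  set w : ι → ℝ := fun i => ((h i : ℝ) - 1) / ((e i : ℝ) * h i) with hw
  have hw_le : ∀ i, w i ≤ 1 / (e i : ℝ) := by
    intro i
    have h1 : (0 : ℝ) < h i := by exact_mod_cast hpos i
    have h2 : (0 : ℝ) < e i := by have := he i; positivity
    show ((h i : ℝ) - 1) / ((e i : ℝ) * h i) ≤ 1 / (e i : ℝ)
    rw [div_le_div_iff₀ (by positivity) h2]
    nlinarith
  have hstep : ∀ i, i ≠ j → 1 / (e i : ℝ) ≤ (n i : ℝ) / (2 * E) ∧
      1 / (e i : ℝ) ≤ (n i : ℝ) / ((n i : ℝ) * e i + 1) * (1 + 1 / (2 * E)) := by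
    intro i hi
    have h1 : (2 * E : ℝ) ≤ (n i : ℝ) * e i := by exact_mod_cast hE' i hi
    have h2 : (0 : ℝ) < e i := by have := he i; positivity
    constructor
    · rw [div_le_div_iff₀ h2 (by positivity)]; linarith
    · have h3 : (n i : ℝ) / ((n i : ℝ) * e i + 1) * (1 + 1 / (2 * E)) =
          (n i : ℝ) * (2 * E + 1) / (((n i : ℝ) * e i + 1) * (2 * E)) := by field_simp
      rw [h3, div_le_div_iff₀ h2 (by positivity)]
      nlinarith
  have hcover : ∀ i ∈ Finset.univ.erase j, w i ≤ (if R j i then (n i : ℝ) / (2 * E) else 0) +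
      (if R i j then (n i : ℝ) / ((n i : ℝ) * e i + 1) * (1 + 1 / (2 * E)) else 0) := by
    intro i hi
    have hij := Finset.ne_of_mem_erase hi
    obtain ⟨h1, h2⟩ := hstep i hij
    have h3 := hw_le i
    have hnn : (0 : ℝ) ≤ (n i : ℝ) / (2 * E) := by positivity
    have hnn' : (0 : ℝ) ≤ (n i : ℝ) / ((n i : ℝ) * e i + 1) * (1 + 1 / (2 * E)) := by positivity
    rcases hR i j hij with h | h
    · rw [if_pos h]; split <;> linarith
    · rw [if_pos h]; split <;> linarith
  have hrest := Finset.sum_le_sum hcover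
  rw [Finset.sum_add_distrib, ← Finset.sum_filter, ← Finset.sum_filter, ← Finset.sum_div,
    ← Finset.sum_mul] at hrest
  have hO : (∑ i ∈ (Finset.univ.erase j).filter (fun i => R j i), (n i : ℝ)) / (2 * E) ≤
      (ej - 1) / (2 * E) := by
    refine div_le_div_of_nonneg_right ?_ (by positivity)
    have := hout j
    have h' : ((∑ i ∈ (Finset.univ.erase j).filter (fun i => R j i), n i : ℕ) : ℝ) + 1 ≤ ej := by
      rw [hej]; exact_mod_cast this
    push_cast at h'
    linarith
  have hI := mul_le_mul_of_nonneg_right (hin j) (show (0 : ℝ) ≤ 1 + 1 / (2 * E) by positivity)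
  have htot : 1 - 1 / (g : ℝ) ≤ w j + ((ej - 1) / (2 * E) +
      ej / ((n j : ℝ) * ej + 1) * (1 + 1 / (2 * E))) := by
    rw [← hsum, ← Finset.add_sum_erase _ _ (Finset.mem_univ j)]
    refine add_le_add le_rfl (le_trans hrest ?_)
    exact add_le_add hO hI
  have hgj : (2 * ej + 1) ^ 2 ≤ (g : ℝ) := by
    obtain ⟨i, hi⟩ := hex j
    have h1 : 2 * e j + 1 ≤ h i := le_trans
      (Nat.succ_le_succ (Nat.mul_le_mul (hn i) (hmin' i))) (Nat.le_of_dvd (hpos i) (hdvd i))
    have h2 : 2 * e j + 1 ≤ h j := le_trans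
      (Nat.succ_le_succ (Nat.mul_le_mul (hn j) le_rfl)) (Nat.le_of_dvd (hpos j) (hdvd j))
    have h3 : (2 * e j + 1) * (2 * e j + 1) ≤ g := (Nat.mul_le_mul h1 h2).trans (hg i j hi)
    rw [hej, sq]
    exact_mod_cast h3
  have hginv : 1 / (g : ℝ) ≤ 1 / (2 * ej + 1) ^ 2 :=
    one_div_le_one_div_of_le (by positivity) hgj
  by_cases h2 : n j = 2
  · have hEv : (E : ℝ) = ej + 2 := by rw [hE, if_pos h2, hej]; push_cast; ring
    rw [hEv, h2] at htot
    push_cast at htot
    rcases (show e j = 3 ∨ 5 ≤ e j by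
      have := he j; obtain ⟨k, hk⟩ := heodd j; omega) with h3 | h5
    · have hh : h j = 7 := by
        have := hprime j (by rw [h2, h3]; norm_num)
        rw [h2, h3] at this; exact this
      have hwj : w j = 6 / 21 := by
        show ((h j : ℝ) - 1) / ((e j : ℝ) * h j) = _
        rw [hh, h3]; norm_num
      have : ej = 3 := by rw [hej, h3]; norm_num
      rw [hwj, this] at htot
      rw [this] at hginv
      norm_num at htot hginv
      linarith
    · have h5' : (5 : ℝ) ≤ ej := by rw [hej]; exact_mod_cast h5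
      have hwj : w j ≤ 1 / ej := hw_le j
      have h6 : 1 / (2 * ej + 1) ^ 2 ≤ 1 / (4 * ej ^ 2) :=
        one_div_le_one_div_of_le (by positivity) (by nlinarith)
      have key : 1 / ej + ((ej - 1) / (2 * (ej + 2)) + ej / (2 * ej + 1) * (1 + 1 / (2 * (ej + 2)))) +
          1 / (4 * ej ^ 2) < 1 := by
        have e1 : (ej - 1) / (2 * (ej + 2)) + ej / (2 * ej + 1) * (1 + 1 / (2 * (ej + 2))) =
            1 - (6 * ej + 5) / ((2 * ej + 1) * (2 * (ej + 2))) := by
          field_simp
          ring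
        have e2 : 1 / ej + 1 / (4 * ej ^ 2) < (6 * ej + 5) / ((2 * ej + 1) * (2 * (ej + 2))) := by
          have e3 : 1 / ej + 1 / (4 * ej ^ 2) = (4 * ej + 1) / (4 * ej ^ 2) := by field_simp
          rw [e3, div_lt_div_iff₀ (by positivity) (by positivity)]
          nlinarith
        rw [e1]
        linarith
      linarith
  · have hn4 : (4 : ℝ) ≤ (n j : ℝ) := by
      have : 4 ≤ n j := by have := hn j; obtain ⟨k, hk⟩ := hneven j; omega
      exact_mod_cast this
    have hEv : (E : ℝ) = ej := by rw [hE, if_neg h2, hej]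
    rw [hEv] at htot
    have hwj : w j ≤ 1 / ej := hw_le j
    have h7 : ej / ((n j : ℝ) * ej + 1) ≤ ej / (4 * ej + 1) :=
      div_le_div_of_nonneg_left (by positivity) (by positivity) (by nlinarith)
    have h8 : ej / ((n j : ℝ) * ej + 1) * (1 + 1 / (2 * ej)) ≤ 7 / 26 := by
      refine le_trans (mul_le_mul_of_nonneg_right h7 (by positivity)) ?_
      rw [show ej / (4 * ej + 1) * (1 + 1 / (2 * ej)) = (2 * ej + 1) / (2 * (4 * ej + 1)) by
        field_simp, div_le_div_iff₀ (by positivity) (by norm_num)]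
      nlinarith
    have h9 : 1 / ej + (ej - 1) / (2 * ej) ≤ 2 / 3 := by
      rw [show 1 / ej + (ej - 1) / (2 * ej) = (ej + 1) / (2 * ej) by field_simp; ring,
        div_le_div_iff₀ (by positivity) (by norm_num)]
      nlinarith
    have h10 : 1 / (2 * ej + 1) ^ 2 ≤ 1 / 49 :=
      one_div_le_one_div_of_le (by norm_num) (by nlinarith)
    linarith

variable {G : Type u} [Group G] [Fintype G]

/-- Bessel's inequality for an irreducible character against orthogonal real-coefficient vectors. -/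
theorem bessel {κ : Type*} (s : Finset κ) (χ : IrrCharacter G) (v : κ → G → ℂ) (q z : κ → ℝ)
    (hq : ∀ k ∈ s, 0 < q k) (hvv : ∀ k ∈ s, ∀ l ∈ s, k ≠ l → classInner (v k) (v l) = 0)
    (hv : ∀ k ∈ s, classInner (v k) (v k) = (q k : ℂ))
    (hz : ∀ k ∈ s, classInner (χ : G → ℂ) (v k) = (z k : ℂ)) :
    ∑ k ∈ s, z k ^ 2 / q k ≤ 1 := by
  classical
  set S := ∑ k ∈ s, z k ^ 2 / q k with hS
  set w : G → ℂ := ∑ k ∈ s, ((z k / q k : ℝ) : ℂ) • v k with hw
  have h1 : classInner (χ : G → ℂ) w = (S : ℂ) := by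
    rw [hw, inner_sum_right, hS, Complex.ofReal_sum]
    refine Finset.sum_congr rfl fun k hk => ?_
    rw [CfsgLib.Chars.inner_smul_right, Complex.conj_ofReal, hz k hk]
    push_cast
    ring
  have h2 : classInner w w = (S : ℂ) := by
    rw [hw, CfsgLib.Chars.inner_sum_left, hS, Complex.ofReal_sum]
    refine Finset.sum_congr rfl fun k hk => ?_
    rw [CfsgLib.Chars.inner_smul_left, inner_sum_right, Finset.sum_eq_single k
      (fun l hl hlk => by rw [CfsgLib.Chars.inner_smul_right, hvv k hk l hl (Ne.symm hlk), mul_zero])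
      (fun h => absurd hk h), CfsgLib.Chars.inner_smul_right, Complex.conj_ofReal, hv k hk]
    have := (hq k hk).ne'
    have hqc : (q k : ℂ) ≠ 0 := by exact_mod_cast this
    push_cast
    field_simp
  have h3 : classInner w (χ : G → ℂ) = (S : ℂ) := by
    rw [← CfsgLib.Chars.inner_conj, h1, Complex.conj_ofReal]
  have h4 : classInner ((χ : G → ℂ) - w) ((χ : G → ℂ) - w) = ((1 - S : ℝ) : ℂ) := by
    rw [CfsgLib.Chars.inner_sub_left, CfsgLib.Chars.inner_sub_right,
      CfsgLib.Chars.inner_sub_right, inner_irr_self, h1, h2, h3]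
    push_cast
    ring
  rw [inner_self_eq, Complex.ofReal_inj] at h4
  have h5 : (0 : ℝ) ≤ 1 - S := h4 ▸ by positivity
  linarith

variable {h k : ℕ} {S T : Set G}

theorem inner_α_cross (P : Piece h S) (Q : Piece k T) (hdisj : Disjoint S T)
    (r : Fin P.n) (s : Fin Q.n) : classInner (P.α r) (Q.α s) = 0 := by
  rw [inner_def, Finset.sum_eq_zero, mul_zero]
  intro g _
  by_contra h
  rw [mul_eq_zero, not_or, map_eq_zero] at h
  exact Set.disjoint_left.mp hdisj (P.α_supp r g h.1) (Q.α_supp s g h.2)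

theorem ψ_ne_principal (P : Piece h S) (r : Fin P.n) : P.ψ r ≠ principal G := fun h =>
  P.bar_ne r (P.ψ_inj (by rw [← P.conj_ψ r, h, conjIrr_principal]))

theorem ε_ne_zero (P : Piece h S) : (P.ε : ℂ) ≠ 0 := by
  rcases P.ε_sq with h | h <;> simp [h]

theorem ψ_disjoint (P : Piece h S) (Q : Piece k T) (hdisj : Disjoint S T)
    (r : Fin P.n) (s : Fin Q.n) : P.ψ r ≠ Q.ψ s := by
  classical
  intro h
  have h' : P.ψ (P.bar r) = Q.ψ (Q.bar s) := by rw [← P.conj_ψ, h, Q.conj_ψ]
  have hne : P.ψ (P.bar r) ≠ P.ψ r := fun e => P.bar_ne r (P.ψ_inj e)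
  have h0 : classInner (P.α r - P.α (P.bar r)) (Q.α s - Q.α (Q.bar s)) = 0 := by
    simp only [CfsgLib.Chars.inner_sub_left, CfsgLib.Chars.inner_sub_right,
      inner_α_cross P Q hdisj, sub_zero]
  rw [P.diff, Q.diff, CfsgLib.Chars.inner_smul_left, CfsgLib.Chars.inner_smul_right, ← h, ← h',
    CfsgLib.Chars.inner_sub_left, CfsgLib.Chars.inner_sub_right, CfsgLib.Chars.inner_sub_right,
    inner_irr_self, inner_irr_self, inner_irr_ne hne, inner_irr_ne hne.symm, map_intCast] at h0
  rcases mul_eq_zero.mp h0 with h1 | h1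
  · exact ε_ne_zero P h1
  rcases mul_eq_zero.mp h1 with h2 | h2
  · exact ε_ne_zero Q h2
  · norm_num at h2

/-- Multiplicity of an irreducible character in `α r`. -/
noncomputable def mult (P : Piece h S) (r : Fin P.n) (χ : IrrCharacter G) : ℤ :=
  ((isGeneralized_iff_inner.mp (P.α_gen r)).2 χ).choose

theorem mult_spec (P : Piece h S) (r : Fin P.n) (χ : IrrCharacter G) :
    classInner (P.α r) (χ : G → ℂ) = (mult P r χ : ℂ) :=
  ((isGeneralized_iff_inner.mp (P.α_gen r)).2 χ).choose_spec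

theorem mult_diff [DecidableEq (IrrCharacter G)] (P : Piece h S) (r t : Fin P.n) (χ : IrrCharacter G) :
    mult P r χ - mult P t χ =
      P.ε * ((if P.ψ t = χ then 1 else 0) - (if P.ψ r = χ then 1 else 0)) := by
  have h := congrArg (fun f => classInner f (χ : G → ℂ)) (P.diff r t)
  simp only [CfsgLib.Chars.inner_sub_left, CfsgLib.Chars.inner_smul_left, mult_spec, inner_irr] at h
  apply Int.cast_injective (α := ℂ)
  push_cast
  exact h

theorem mult_principal (P : Piece h S) (r : Fin P.n) : mult P r (principal G) = 1 := by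
  have h1 := mult_spec P r (principal G)
  rw [show ((principal G : IrrCharacter G) : G → ℂ) = fun _ => 1 from rfl, P.inner_one r] at h1
  exact_mod_cast h1.symm

theorem mult_conjIrr (P : Piece h S) (r : Fin P.n) (χ : IrrCharacter G) :
    mult P r (conjIrr χ) = mult P (P.bar r) χ := by
  apply Int.cast_injective (α := ℂ)
  rw [← mult_spec, ← mult_spec]
  have h : classInner (P.α r) (conjIrr χ : G → ℂ) = conj (classInner (P.α (P.bar r)) (χ : G → ℂ)) := by
    simp only [inner_def, map_mul, map_inv₀, Complex.conj_natCast, map_sum, Complex.conj_conj]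
    refine congrArg _ (Finset.sum_congr rfl fun g _ => ?_)
    rw [← P.conj_α r g, Complex.conj_conj]
    show P.α r g * conj (conj ((χ : G → ℂ) g)) = _
    rw [Complex.conj_conj]
  rw [h, mult_spec, map_intCast]

/-- The index zero. -/
def Piece.zero (P : Piece h S) : Fin P.n := ⟨0, lt_of_lt_of_le two_pos P.two_le⟩

/-- The coefficient of the exceptional characters of `Q` in the differences of `P`. -/
noncomputable def coef (P : Piece h S) (Q : Piece k T) : ℤ := mult P P.zero (Q.ψ Q.zero)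

theorem mult_eq_coef (P : Piece h S) (Q : Piece k T) (hdisj : Disjoint S T)
    (r : Fin P.n) (s : Fin Q.n) : mult P r (Q.ψ s) = coef P Q := by
  classical
  have h1 := mult_diff P r P.zero (Q.ψ s)
  rw [if_neg (ψ_disjoint P Q hdisj _ _), if_neg (ψ_disjoint P Q hdisj _ _), sub_zero, mul_zero,
    sub_eq_zero] at h1
  have h2 : classInner (P.α P.zero) (Q.α s - Q.α Q.zero) = 0 := by
    rw [CfsgLib.Chars.inner_sub_right, inner_α_cross P Q hdisj, inner_α_cross P Q hdisj, sub_zero]
  rw [Q.diff, CfsgLib.Chars.inner_smul_right, CfsgLib.Chars.inner_sub_right, mult_spec, mult_spec,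
    mul_eq_zero, map_intCast] at h2
  have h3 := h2.resolve_left (ε_ne_zero Q)
  rw [h1, coef]
  have h4 : mult P P.zero (Q.ψ Q.zero) = mult P P.zero (Q.ψ s) := by
    have := sub_eq_zero.mp h3
    exact_mod_cast this
  exact h4.symm

/-- In an odd group one of the two coefficients is nonzero. -/
theorem coef_ne_zero (hodd : Odd (Nat.card G)) (P : Piece h S) (Q : Piece k T)
    (hdisj : Disjoint S T) : coef P Q ≠ 0 ∨ coef Q P ≠ 0 := by
  classical
  haveI := irrFintype G
  have h0 : ∑ χ : IrrCharacter G, mult P P.zero χ * mult Q Q.zero χ = 0 := by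
    apply Int.cast_injective (α := ℂ)
    push_cast
    rw [← inner_α_cross P Q hdisj P.zero Q.zero,
      inner_eq_sum (isClassFunction_of_isGeneralized (P.α_gen _))]
    refine Finset.sum_congr rfl fun χ _ => ?_
    rw [mult_spec, mult_spec, map_intCast]
  rw [← Finset.add_sum_erase _ _ (Finset.mem_univ (principal G)), mult_principal, mult_principal,
    one_mul] at h0
  have h2 := congrArg (Int.cast : ℤ → ZMod 2) h0
  push_cast at h2
  -- symmetrised multiplicities
  let bP : IrrCharacter G → ZMod 2 := fun χ => (mult P P.zero χ : ZMod 2) + if P.ψ P.zero = χ then 1 else 0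
  let bQ : IrrCharacter G → ZMod 2 := fun χ => (mult Q Q.zero χ : ZMod 2) + if Q.ψ Q.zero = χ then 1 else 0
  have hsym : ∀ {l : ℕ} {L : Set G} (R : Piece l L) (χ : IrrCharacter G),
      ((mult R R.zero (conjIrr χ) : ZMod 2) + if R.ψ R.zero = conjIrr χ then 1 else 0) =
        (mult R R.zero χ : ZMod 2) + if R.ψ R.zero = χ then 1 else 0 := by
    intro l L R χ
    have hiff : (R.ψ R.zero = conjIrr χ) ↔ (R.ψ (R.bar R.zero) = χ) := by
      rw [← R.conj_ψ]
      exact ⟨fun h => by rw [h, conjIrr_conjIrr], fun h => by rw [← h, conjIrr_conjIrr]⟩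
    have h := mult_diff R R.zero (R.bar R.zero) χ
    rw [mult_conjIrr, show mult R (R.bar R.zero) χ = mult R R.zero χ -
      R.ε * ((if R.ψ (R.bar R.zero) = χ then 1 else 0) - (if R.ψ R.zero = χ then 1 else 0)) by linarith]
    have hε : (R.ε : ZMod 2) = 1 := by rcases R.ε_sq with h | h <;> simp [h]
    push_cast
    rw [hε, one_mul]
    simp only [hiff]
    ring
  have hb : ∑ χ ∈ (Finset.univ.erase (principal G)), bP χ * bQ χ = 0 := by
    refine Finset.sum_involution (fun χ _ => conjIrr χ) (fun χ _ => ?_) (fun χ hχ _ => ?_)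
      (fun χ hχ => ?_) (fun χ _ => conjIrr_conjIrr χ)
    · show bP χ * bQ χ + bP (conjIrr χ) * bQ (conjIrr χ) = 0
      simp only [bP, bQ, hsym]
      exact (by decide : ∀ a : ZMod 2, a + a = 0) _
    · intro h
      exact (Finset.ne_of_mem_erase hχ)
        (eq_principal_of_real_of_odd hodd χ ((conjIrr_eq_iff χ).mp h))
    · refine Finset.mem_erase.mpr ⟨fun h => Finset.ne_of_mem_erase hχ ?_, Finset.mem_univ _⟩
      rw [← conjIrr_conjIrr χ, h, conjIrr_principal]
  have hexp : ∀ χ : IrrCharacter G, bP χ * bQ χ =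
      (mult P P.zero χ : ZMod 2) * (mult Q Q.zero χ : ZMod 2) +
      ((if P.ψ P.zero = χ then (coef Q P : ZMod 2) else 0) +
        (if Q.ψ Q.zero = χ then (coef P Q : ZMod 2) else 0)) := by
    intro χ
    simp only [bP, bQ]
    by_cases h1 : P.ψ P.zero = χ
    · subst h1
      rw [if_pos rfl, if_pos rfl, if_neg (ψ_disjoint P Q hdisj _ _).symm,
        if_neg (ψ_disjoint P Q hdisj _ _).symm, mult_eq_coef Q P hdisj.symm]
      ring
    · rw [if_neg h1, if_neg h1]
      by_cases h2 : Q.ψ Q.zero = χ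
      · subst h2
        rw [if_pos rfl, if_pos rfl, mult_eq_coef P Q hdisj]
        ring
      · rw [if_neg h2, if_neg h2]
        ring
  rw [Finset.sum_congr rfl fun χ _ => hexp χ, Finset.sum_add_distrib, Finset.sum_add_distrib,
    Finset.sum_ite_eq, Finset.sum_ite_eq, if_pos (Finset.mem_erase.mpr ⟨ψ_ne_principal P _, Finset.mem_univ _⟩),
    if_pos (Finset.mem_erase.mpr ⟨ψ_ne_principal Q _, Finset.mem_univ _⟩)] at hb
  by_contra hc
  push Not at hc
  rw [hc.1, hc.2, Int.cast_zero, add_zero, add_zero] at hb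
  rw [hb, add_zero] at h2
  exact absurd h2 (by decide)

theorem inner_α (P : Piece h S) (r t : Fin P.n) :
    classInner (P.α r) (P.α t) = (P.e : ℂ) + if r = t then 1 else 0 := by
  by_cases h : r = t
  · subst h; rw [if_pos rfl, P.inner_self]
  · rw [if_neg h, add_zero, P.inner_ne r t h]

variable {ι : Type*} [Fintype ι] [DecidableEq ι] {F : ι → Subgroup G} {hc : ι → ℕ} {U : ι → Set G}

/-- The norm bound on the outgoing coefficients. -/
theorem out_bound (P : ∀ i, Piece (hc i) (U i)) (hdisj : ∀ i j, i ≠ j → Disjoint (U i) (U j))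
    (i : ι) : (∑ j ∈ (Finset.univ.erase i).filter (fun j => coef (P i) (P j) ≠ 0), (P j).n) + 1 ≤
      (P i).e := by
  classical
  haveI := irrFintype G
  set A := fun χ => mult (P i) (P i).zero χ with hA
  have h0 : ∑ χ : IrrCharacter G, A χ * A χ = ((P i).e : ℤ) + 1 := by
    apply Int.cast_injective (α := ℂ)
    push_cast
    rw [← (P i).inner_self (P i).zero, inner_eq_sum (isClassFunction_of_isGeneralized ((P i).α_gen _))]
    refine Finset.sum_congr rfl fun χ _ => ?_
    simp only [hA, mult_spec, map_intCast]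
  set O := (Finset.univ.erase i).filter (fun j => coef (P i) (P j) ≠ 0) with hO
  set z := (P i).zero with hz
  obtain ⟨χ₀, hχ₀, hχ₀'⟩ : ∃ χ₀ ∈ ({(P i).ψ z, (P i).ψ ((P i).bar z)} : Finset (IrrCharacter G)),
      A χ₀ ≠ 0 := by
    by_contra hn
    push Not at hn
    have h1 := hn ((P i).ψ z) (by simp)
    have h2 := hn ((P i).ψ ((P i).bar z)) (by simp)
    have h3 := mult_diff (P i) z ((P i).bar z) ((P i).ψ z)
    have h4 := mult_conjIrr (P i) z ((P i).ψ z)
    rw [(P i).conj_ψ] at h4
    simp only [hA, ← hz] at h1 h2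
    rw [← h4, h1, h2, if_pos rfl, if_neg (fun e => (P i).bar_ne z ((P i).ψ_inj e))] at h3
    rcases (P i).ε_sq with h | h <;> rw [h] at h3 <;> norm_num at h3
  let T : ι → Finset (IrrCharacter G) := fun j => Finset.univ.image (P j).ψ
  have hT : ∀ j ∈ O, ∀ χ ∈ T j, 1 ≤ A χ * A χ ∧ χ ≠ χ₀ ∧ χ ≠ principal G := by
    intro j hj χ hχ
    obtain ⟨hj', hc⟩ := Finset.mem_filter.mp hj
    have hji := Finset.ne_of_mem_erase hj'
    obtain ⟨s, -, rfl⟩ := Finset.mem_image.mp hχ
    refine ⟨?_, ?_, ψ_ne_principal _ _⟩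
    · simp only [hA, mult_eq_coef (P i) (P j) (hdisj i j hji.symm)]
      exact Int.add_one_le_iff.mpr (mul_self_pos.mpr hc)
    · rcases Finset.mem_insert.mp hχ₀ with h | h
      · exact h ▸ ψ_disjoint (P j) (P i) (hdisj j i hji) _ _
      · exact (Finset.mem_singleton.mp h) ▸ ψ_disjoint (P j) (P i) (hdisj j i hji) _ _
  have hpd : Set.PairwiseDisjoint (O : Set ι) T := by
    intro a _ b _ hab
    rw [Function.onFun, Finset.disjoint_left]
    intro χ ha hb
    obtain ⟨r, -, rfl⟩ := Finset.mem_image.mp ha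
    obtain ⟨s, -, hs⟩ := Finset.mem_image.mp hb
    exact ψ_disjoint (P a) (P b) (hdisj a b hab) r s hs.symm
  have hne : χ₀ ≠ principal G := by
    rcases Finset.mem_insert.mp hχ₀ with h | h
    · exact h ▸ ψ_ne_principal _ _
    · exact (Finset.mem_singleton.mp h) ▸ ψ_ne_principal _ _
  have hsub : A (principal G) * A (principal G) + (A χ₀ * A χ₀ + ∑ χ ∈ O.biUnion T, A χ * A χ) ≤
      ∑ χ : IrrCharacter G, A χ * A χ := by
    have h1 : χ₀ ∉ O.biUnion T := fun h => by
      obtain ⟨j, hj, hχ⟩ := Finset.mem_biUnion.mp h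
      exact (hT j hj _ hχ).2.1 rfl
    have h2 : principal G ∉ insert χ₀ (O.biUnion T) := fun h => by
      rcases Finset.mem_insert.mp h with h | h
      · exact hne h.symm
      · obtain ⟨j, hj, hχ⟩ := Finset.mem_biUnion.mp h
        exact (hT j hj _ hχ).2.2 rfl
    rw [← Finset.sum_insert (f := fun χ => A χ * A χ) h1, ← Finset.sum_insert (f := fun χ => A χ * A χ) h2]
    exact Finset.sum_le_sum_of_subset_of_nonneg (Finset.subset_univ _) fun χ _ _ => mul_self_nonneg _
  have hlow : ((∑ j ∈ O, (P j).n : ℕ) : ℤ) ≤ ∑ χ ∈ O.biUnion T, A χ * A χ := by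
    rw [Finset.sum_biUnion hpd, Nat.cast_sum]
    refine Finset.sum_le_sum fun j hj => ?_
    calc ((P j).n : ℤ) = ∑ χ ∈ T j, (1 : ℤ) := by
          rw [Finset.sum_const, Finset.card_image_of_injective _ (P j).ψ_inj, Finset.card_univ,
            Fintype.card_fin, nsmul_one]
      _ ≤ _ := Finset.sum_le_sum fun χ hχ => (hT j hj χ hχ).1
  have hA1 : A (principal G) = 1 := mult_principal _ _
  have hA2 : 1 ≤ A χ₀ * A χ₀ := Int.add_one_le_iff.mpr (mul_self_pos.mpr hχ₀')
  rw [h0, hA1] at hsub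
  omega

/-- The Bessel bound on the incoming coefficients. -/
theorem in_bound (P : ∀ i, Piece (hc i) (U i)) (hdisj : ∀ i j, i ≠ j → Disjoint (U i) (U j))
    (j : ι) : ∑ i ∈ (Finset.univ.erase j).filter (fun i => coef (P i) (P j) ≠ 0),
      ((P i).n : ℝ) / (((P i).n : ℝ) * (P i).e + 1) ≤
        ((P j).e : ℝ) / (((P j).n : ℝ) * (P j).e + 1) := by
  classical
  set z := (P j).zero with hz0
  set In := (Finset.univ.erase j).filter (fun i => coef (P i) (P j) ≠ 0) with hIn
  let u : ι → G → ℂ := fun i => ∑ r, (P i).α r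
  let v : G → ℂ := u j - ((P j).n : ℂ) • (P j).α z
  have hu_self : ∀ i r, classInner (u i) ((P i).α r) = ((P i).n : ℂ) * (P i).e + 1 := by
    intro i r
    rw [CfsgLib.Chars.inner_sum_left]
    simp only [inner_α, Finset.sum_add_distrib, Finset.sum_const, Finset.card_univ,
      Fintype.card_fin, nsmul_eq_mul, Finset.sum_ite_eq', Finset.mem_univ, if_true]
  have huu : ∀ i, classInner (u i) (u i) = ((P i).n : ℂ) * (((P i).n : ℂ) * (P i).e + 1) := by
    intro i
    show classInner (u i) (∑ r, (P i).α r) = _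
    rw [inner_sum_right, Finset.sum_congr rfl fun r _ => hu_self i r, Finset.sum_const,
      Finset.card_univ, Fintype.card_fin, nsmul_eq_mul]
  have hu_cross : ∀ i k, i ≠ k → ∀ r, classInner (u i) ((P k).α r) = 0 := by
    intro i k hik r
    rw [CfsgLib.Chars.inner_sum_left]
    exact Finset.sum_eq_zero fun s _ => inner_α_cross _ _ (hdisj i k hik) _ _
  have huu_cross : ∀ i k, i ≠ k → classInner (u i) (u k) = 0 := by
    intro i k hik
    show classInner (u i) (∑ r, (P k).α r) = 0
    rw [inner_sum_right]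
    exact Finset.sum_eq_zero fun s _ => hu_cross i k hik s
  have huv : ∀ i, classInner (u i) v = 0 := by
    intro i
    rw [CfsgLib.Chars.inner_sub_right, CfsgLib.Chars.inner_smul_right, Complex.conj_natCast]
    by_cases h : i = j
    · subst h; rw [huu, hu_self, sub_self]
    · rw [huu_cross i j h, hu_cross i j h, mul_zero, sub_zero]
  have hvu : ∀ i, classInner v (u i) = 0 := fun i => by
    rw [← CfsgLib.Chars.inner_conj, huv, map_zero]
  have hvv : classInner v v = ((P j).n : ℂ) * ((P j).n : ℂ) - (P j).n := by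
    have h1 : classInner (v) ((P j).α z) = 1 - ((P j).n : ℂ) := by
      rw [CfsgLib.Chars.inner_sub_left, CfsgLib.Chars.inner_smul_left, hu_self, inner_α, if_pos rfl]
      ring
    show classInner v (u j - ((P j).n : ℂ) • (P j).α z) = _
    rw [CfsgLib.Chars.inner_sub_right, CfsgLib.Chars.inner_smul_right, hvu, h1, Complex.conj_natCast]
    ring
  have hz_u : ∀ i, classInner ((P j).ψ z : G → ℂ) (u i) =
      ((∑ r, mult (P i) r ((P j).ψ z) : ℤ) : ℂ) := by
    intro i
    rw [inner_sum_right, Int.cast_sum]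
    refine Finset.sum_congr rfl fun r _ => ?_
    rw [← CfsgLib.Chars.inner_conj, mult_spec, map_intCast]
  set A := mult (P j) z ((P j).ψ z) with hA
  have hsum_j : ∑ r, mult (P j) r ((P j).ψ z) = ((P j).n : ℤ) * A + (P j).ε * ((P j).n - 1) := by
    have h1 : ∀ r, mult (P j) r ((P j).ψ z) = A + (P j).ε * (1 - if r = z then 1 else 0) := by
      intro r
      have := mult_diff (P j) r z ((P j).ψ z)
      rw [if_pos rfl] at this
      simp only [(P j).ψ_inj.eq_iff] at this
      rw [hA]; linarith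
    rw [Finset.sum_congr rfl fun r _ => h1 r, Finset.sum_add_distrib, Finset.sum_const,
      Finset.card_univ, Fintype.card_fin, nsmul_eq_mul, ← Finset.mul_sum, Finset.sum_sub_distrib,
      Finset.sum_const, Finset.card_univ, Fintype.card_fin, Finset.sum_ite_eq',
      if_pos (Finset.mem_univ _), nsmul_one]
  set Z : ι ⊕ Unit → ℤ := fun k => k.elim (fun i => ∑ r, mult (P i) r ((P j).ψ z))
    (fun _ => (P j).ε * ((P j).n - 1)) with hZ
  have hbes := bessel ((insert j In).disjSum {()}) ((P j).ψ z) (Sum.elim u fun _ => v)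
    (Sum.elim (fun i => ((P i).n : ℝ) * (((P i).n : ℝ) * (P i).e + 1))
      (fun _ => ((P j).n : ℝ) * ((P j).n : ℝ) - (P j).n))
    (fun k => (Z k : ℝ)) ?_ ?_ ?_ ?_
  rotate_left
  · intro k _
    rcases k with i | k
    · have := (P i).two_le
      simp only [Sum.elim_inl]; positivity
    · have : (2 : ℝ) ≤ ((P j).n : ℝ) := by exact_mod_cast (P j).two_le
      simp only [Sum.elim_inr]; nlinarith
  · rintro (i | k) _ (i' | k') _ hne
    · exact huu_cross i i' (fun e => hne (by rw [e]))
    · exact huv i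
    · exact hvu i'
    · exact absurd rfl hne
  · rintro (i | k) _
    · simp only [Sum.elim_inl]; rw [huu]; push_cast; ring
    · simp only [Sum.elim_inr]; rw [hvv]; push_cast; ring
  · rintro (i | k) _
    · simp only [Sum.elim_inl, hZ]; rw [hz_u]; push_cast; rfl
    · simp only [Sum.elim_inr, hZ]
      rw [CfsgLib.Chars.inner_sub_right, CfsgLib.Chars.inner_smul_right, hz_u, hsum_j,
        ← CfsgLib.Chars.inner_conj, mult_spec, map_intCast, Complex.conj_natCast, ← hA]
      push_cast; ring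
  rw [Finset.sum_disjSum, Finset.sum_singleton,
    Finset.sum_insert (fun h => (Finset.ne_of_mem_erase (Finset.mem_filter.mp h).1) rfl)] at hbes
  simp only [Sum.elim_inl, Sum.elim_inr, hZ, hsum_j] at hbes
  set n := ((P j).n : ℝ) with hn
  set e := ((P j).e : ℝ) with he
  have hn2 : (2 : ℝ) ≤ n := by rw [hn]; exact_mod_cast (P j).two_le
  have he0 : (0 : ℝ) ≤ e := Nat.cast_nonneg _
  have hJ : 1 / (n * (n * e + 1)) ≤
      (((P j).n * A + (P j).ε * ((P j).n - 1) : ℤ) : ℝ) ^ 2 / (n * (n * e + 1)) := by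
    refine div_le_div_of_nonneg_right ?_ (by positivity)
    have h2 := (P j).two_le
    have : ((P j).n : ℤ) * A + (P j).ε * ((P j).n - 1) ≠ 0 := by
      intro h
      have hd : ((P j).n : ℤ) ∣ (P j).ε :=
        ⟨A + (P j).ε, by linarith⟩
      rcases (P j).ε_sq with h' | h' <;> rw [h'] at hd
      · have := Int.le_of_dvd one_pos hd; omega
      · have := Int.le_of_dvd one_pos (dvd_neg.mp hd); omega
    exact_mod_cast Int.add_one_le_iff.mpr (sq_pos_of_ne_zero this)
  have hV : (((P j).ε * ((P j).n - 1) : ℤ) : ℝ) ^ 2 / (n * n - n) = (n - 1) / n := by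
    have hε : (((P j).ε : ℤ) : ℝ) ^ 2 = 1 := by rcases (P j).ε_sq with h | h <;> simp [h]
    push_cast
    rw [mul_pow, hε, one_mul, ← hn, div_eq_div_iff (by nlinarith) (by positivity)]
    ring
  have hI : ∑ i ∈ In, ((P i).n : ℝ) / (((P i).n : ℝ) * (P i).e + 1) ≤
      ∑ i ∈ In, ((∑ r, mult (P i) r ((P j).ψ z) : ℤ) : ℝ) ^ 2 /
        (((P i).n : ℝ) * (((P i).n : ℝ) * (P i).e + 1)) := by
    refine Finset.sum_le_sum fun i hi => ?_
    obtain ⟨hij, hc⟩ := Finset.mem_filter.mp hi
    rw [Finset.sum_congr rfl fun r _ => mult_eq_coef (P i) (P j) (hdisj i j (Finset.ne_of_mem_erase hij)) r z,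
      Finset.sum_const, Finset.card_univ, Fintype.card_fin, nsmul_eq_mul]
    have h2 : (2 : ℝ) ≤ ((P i).n : ℝ) := by exact_mod_cast (P i).two_le
    have hc2 : (1 : ℝ) ≤ (coef (P i) (P j) : ℝ) ^ 2 := by
      exact_mod_cast Int.add_one_le_iff.mpr (sq_pos_of_ne_zero hc)
    push_cast
    rw [div_le_div_iff₀ (by positivity) (by positivity), mul_pow]
    have h3 : (0 : ℝ) ≤ ((P i).n : ℝ) * (P i).e + 1 := by positivity
    nlinarith [mul_le_mul_of_nonneg_left hc2
      (mul_nonneg (mul_nonneg (show (0 : ℝ) ≤ ((P i).n : ℝ) by positivity) (show (0 : ℝ) ≤ ((P i).n : ℝ) by positivity)) h3)]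
  rw [hV] at hbes
  have hfin : e / (n * e + 1) = 1 - (n - 1) / n - 1 / (n * (n * e + 1)) := by
    field_simp
    ring
  rw [hfin]
  linarith

/-- The cover contradiction for several pieces. -/
theorem no_piece_cover (hodd : Odd (Nat.card G)) (P : ∀ i, Piece (hc i) (U i))
    (hpos : ∀ i, 0 < hc i) (he : ∀ i, Odd (P i).e) (hι : 2 ≤ Fintype.card ι)
    (hdisj : ∀ i j, i ≠ j → Disjoint (U i) (U j))
    (hcop : ∀ i j, i ≠ j → (hc i).Coprime (hc j)) (hle : ∀ i j, i ≠ j → hc i * hc j ≤ Nat.card G)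
    (hsum : ∑ i, ((hc i : ℝ) - 1) / (((P i).e : ℝ) * hc i) = 1 - 1 / (Nat.card G : ℝ)) : False := by
  classical
  haveI : Nonempty ι := Fintype.card_pos_iff.mp (by omega)
  refine cover_arith (Nat.card G) (fun i => (P i).e) (fun i => (P i).n) hc
    (fun i j => coef (P i) (P j) ≠ 0) (fun i => (P i).three_le) he
    (fun i => (P i).two_le) (fun i => (P i).even_n) (fun i => (P i).dvd_card)
    hpos (fun i => (P i).prime_card) hcop (fun j => ?_) hle hsum
    (fun i j hij => coef_ne_zero hodd (P i) (P j) (hdisj i j hij))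
    (fun i => out_bound P hdisj i) (fun j => in_bound P hdisj j)
  obtain ⟨a, b, hab⟩ := Fintype.one_lt_card_iff.mp hι
  by_cases h : a = j
  · exact ⟨b, fun e => hab (h.trans e.symm)⟩
  · exact ⟨a, h⟩

/-- The cover contradiction. -/
theorem no_frobenius_cover (hodd : Odd (Nat.card G)) (hι : 2 ≤ Fintype.card ι)
    (hH1 : ∀ i, F i ≠ ⊥) (hTI : ∀ i, IsTISubset (F i : Set G))
    (hlt : ∀ i, F i < Subgroup.normalizer (F i : Set G))
    (hfrob : ∀ i, ∀ h ∈ F i, h ≠ 1 →
      Subgroup.normalizer (F i : Set G) ⊓ Subgroup.centralizer ({h} : Set G) ≤ F i)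
    (hcop : ∀ i j, i ≠ j → (Nat.card (F i)).Coprime (Nat.card (F j)))
    (hcover : ∀ g : G, g ≠ 1 → ∃ i, ∃ x : G, x * g * x⁻¹ ∈ F i) : False := by
  classical
  choose P hPe using fun i => exists_piece hodd (hH1 i) (hTI i) (hfrob i) (hlt i)
  have hG : (0 : ℝ) < (Nat.card G : ℝ) := by exact_mod_cast Nat.card_pos
  have hidx : ∀ i, (Subgroup.normalizer (F i : Set G)).index * ((P i).e * Nat.card (F i)) =
      Nat.card G := by
    intro i
    rw [hPe i, ← Subgroup.relIndex_bot_left (F i), mul_comm (Subgroup.relIndex _ _),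
      Subgroup.relIndex_mul_relIndex _ _ _ bot_le Subgroup.le_normalizer,
      Subgroup.relIndex_bot_left, mul_comm, Subgroup.card_mul_index]
  refine no_piece_cover hodd P (fun i => Nat.card_pos)
    (fun i => hodd.of_dvd_nat (Dvd.intro_left _ (by
      rw [← hidx i]; ring :
        (Subgroup.normalizer (F i : Set G)).index * Nat.card (F i) * (P i).e = Nat.card G)))
    hι ?_ hcop ?_ ?_
  · intro i j hij
    rw [Set.disjoint_left]
    rintro g ⟨hg1, x, hx⟩ ⟨-, y, hy⟩
    have h1 := Subgroup.orderOf_dvd_natCard (F i) hx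
    have h2 := Subgroup.orderOf_dvd_natCard (F j) hy
    rw [← MulAut.conj_apply, MulEquiv.orderOf_eq] at h1 h2
    exact hg1 (orderOf_eq_one_iff.mp (Nat.eq_one_of_dvd_coprimes (hcop i j hij) h1 h2))
  · intro i j hij
    exact Nat.le_of_dvd Nat.card_pos ((hcop i j hij).mul_dvd_of_dvd_of_dvd
      (Subgroup.card_subgroup_dvd_card _) (Subgroup.card_subgroup_dvd_card _))
  · have h := Cfsg.Agent.S1527.result F hcop hTI hcover
    have h' : (Nat.card G : ℝ) - 1 =
        ∑ i, ((Subgroup.normalizer (F i : Set G)).index : ℝ) * ((Nat.card (F i) : ℝ) - 1) := by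
      have h2 := congrArg (fun k : ℕ => (k : ℝ)) h
      simp only [Nat.cast_sum, Nat.cast_mul] at h2
      rw [Nat.cast_sub (Nat.one_le_iff_ne_zero.mpr Nat.card_pos.ne'), Nat.cast_one] at h2
      rw [h2]
      refine Finset.sum_congr rfl fun i _ => ?_
      rw [Nat.cast_sub (Nat.one_le_iff_ne_zero.mpr Nat.card_pos.ne'), Nat.cast_one]
    have h1 : (1 : ℝ) - 1 / (Nat.card G : ℝ) = ((Nat.card G : ℝ) - 1) / (Nat.card G : ℝ) := by
      field_simp
    rw [h1, h', Finset.sum_div]
    refine Finset.sum_congr rfl fun i _ => ?_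
    have h2 : ((Subgroup.normalizer (F i : Set G)).index : ℝ) *
        (((P i).e : ℝ) * (Nat.card (F i) : ℝ)) = (Nat.card G : ℝ) := by exact_mod_cast hidx i
    have he : (0 : ℝ) < ((P i).e : ℝ) * (Nat.card (F i) : ℝ) := by
      have := (P i).three_le
      have := Nat.card_pos (α := F i)
      positivity
    rw [div_eq_div_iff he.ne' hG.ne', ← h2]
    ring

end CfsgLib.CNGroups
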