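import Cfsg.Prelude.Def_OddOrderLocal
import Cfsg.Agent.Lib.Chars.Virtual
import Cfsg.Agent.Lib.Chars.Linear
import Cfsg.Agent.Lib.Chars.Permutation
import Cfsg.Agent.Lib.Base.ThompsonFPF

/-!
# Linear characters of a trivial intersection Frobenius kernel

For a TI subgroup `H`, Frobenius kernel of its normaliser, the class functions `Ind(1 - lam)` for
nontrivial linear characters `lam` have an explicit Gram matrix; this gives a coherent family of
exceptional characters of equal degree, with no further coherence theory.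
-/

set_option autoImplicit false
set_option linter.style.haveILetI false
set_option linter.unusedSectionVars false

namespace CfsgLib.CNGroups

open Subgroup Cfsg CfsgLib.Chars
open scoped ComplexConjugate

universe u

variable {G : Type u} [Group G]

/-- Conjugation by an element of the normalizer. -/
def cjH (H : Subgroup G) (t : normalizer (H : Set G)) : H →* H where
  toFun x := ⟨(t : G) * x * (t : G)⁻¹, (mem_normalizer_iff.mp t.2 _).mp x.2⟩
  map_one' := Subtype.ext (by simp)
  map_mul' a b := Subtype.ext (by simp [mul_assoc])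

theorem cjH_one (H : Subgroup G) : cjH H 1 = MonoidHom.id H :=
  MonoidHom.ext fun x => Subtype.ext (by simp [cjH])

theorem cjH_mul (H : Subgroup G) (a b : normalizer (H : Set G)) :
    cjH H (a * b) = (cjH H a).comp (cjH H b) :=
  MonoidHom.ext fun x => Subtype.ext (by simp [cjH, mul_assoc])

theorem comp_cjH_inv_self {H : Subgroup G} (lam : H →* ℂˣ) (a : normalizer (H : Set G)) :
    (lam.comp (cjH H a)).comp (cjH H a⁻¹) = lam := by
  rw [MonoidHom.comp_assoc, ← cjH_mul, mul_inv_cancel, cjH_one, MonoidHom.comp_id]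

theorem comp_cjH_ne_one {H : Subgroup G} {lam : H →* ℂˣ} (h : lam ≠ 1)
    (a : normalizer (H : Set G)) : lam.comp (cjH H a) ≠ 1 := fun e => h (by
  have h2 := comp_cjH_inv_self lam a
  rw [e, MonoidHom.one_comp] at h2
  exact h2.symm)

theorem comp_cjH_of_mem {H : Subgroup G} (lam : H →* ℂˣ) {a : normalizer (H : Set G)}
    (ha : (a : G) ∈ H) : lam.comp (cjH H a) = lam :=
  MonoidHom.ext fun x => by
    have h : cjH H a x = ⟨a, ha⟩ * x * ⟨a, ha⟩⁻¹ := Subtype.ext rfl
    rw [MonoidHom.comp_apply, h, map_mul, map_mul, map_inv, mul_comm (lam ⟨a, ha⟩) (lam x),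
      mul_inv_cancel_right]

/-- Only elements of `H` fix a nontrivial linear character. -/
theorem mem_of_comp_cjH_eq [Finite G] {H : Subgroup G}
    (hfrob : ∀ h ∈ H, h ≠ 1 → normalizer (H : Set G) ⊓ centralizer ({h} : Set G) ≤ H)
    {lam : H →* ℂˣ} (hlam : lam ≠ 1) {t : normalizer (H : Set G)}
    (h : lam.comp (cjH H t) = lam) : (t : G) ∈ H := by
  by_contra ht
  apply hlam
  have hinj : Function.Injective fun x : H => x⁻¹ * cjH H t x := by
    intro x y hxy
    have hy : cjH H t (y * x⁻¹) = y * x⁻¹ := by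
      rw [map_mul, map_inv]
      simp only at hxy
      rw [show cjH H t y = y * (x⁻¹ * cjH H t x) by rw [hxy, mul_inv_cancel_left]]
      group
    by_contra hne
    have hz1 : ((y * x⁻¹ : H) : G) ≠ 1 := fun e =>
      hne (mul_inv_eq_one.mp (Subtype.ext e)).symm
    refine ht (hfrob _ (y * x⁻¹ : H).2 hz1 ⟨t.2, ?_⟩)
    show (t : G) ∈ centralizer ({((y * x⁻¹ : H) : G)} : Set G)
    rw [mem_centralizer_singleton_iff]
    exact mul_inv_eq_iff_eq_mul.mp (congrArg Subtype.val hy)
  refine MonoidHom.ext fun z => ?_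
  obtain ⟨x, rfl⟩ := Finite.injective_iff_surjective.mp hinj z
  rw [map_mul, map_inv, ← MonoidHom.comp_apply, h, inv_mul_cancel, MonoidHom.one_apply]

/-- A linear character as an irreducible character. -/
noncomputable def linIrr {K : Type u} [Group K] (lam : K →* ℂˣ) : IrrCharacter K :=
  (linearEquiv K lam).1

theorem linIrr_apply {K : Type u} [Group K] (lam : K →* ℂˣ) (x : K) :
    (linIrr lam : K → ℂ) x = (lam x : ℂ) := rfl

theorem linIrr_injective {K : Type u} [Group K] : Function.Injective (linIrr (K := K)) :=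
  fun _ _ h => (linearEquiv K).injective (Subtype.ext h)

theorem inner_one_sub {K : Type u} [Group K] [Fintype K] [DecidableEq (K →* ℂˣ)]
    (lam mu : K →* ℂˣ) :
    classInner (fun x : K => 1 - (lam x : ℂ)) (fun x : K => 1 - (mu x : ℂ)) =
      1 - (if mu = 1 then 1 else 0) - (if lam = 1 then 1 else 0) + (if lam = mu then 1 else 0) := by
  classical
  have h1 : (fun x : K => 1 - (lam x : ℂ)) = ((linIrr (1 : K →* ℂˣ)) : K → ℂ) - (linIrr lam : K → ℂ) :=
    funext fun x => by simp [linIrr_apply]
  have h2 : (fun x : K => 1 - (mu x : ℂ)) = ((linIrr (1 : K →* ℂˣ)) : K → ℂ) - (linIrr mu : K → ℂ) :=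
    funext fun x => by simp [linIrr_apply]
  rw [h1, h2, CfsgLib.Chars.inner_sub_left, CfsgLib.Chars.inner_sub_right,
    CfsgLib.Chars.inner_sub_right, inner_irr, inner_irr, inner_irr, inner_irr]
  simp only [linIrr_injective.eq_iff, @eq_comm _ (1 : K →* ℂˣ) mu, if_true]
  ring

variable [Fintype G]

/-- The induced function of `1 - lam`. -/
noncomputable def phi (H : Subgroup G) (lam : H →* ℂˣ) : G → ℂ :=
  indFun H fun x => 1 - (lam x : ℂ)

theorem sum_extend_eq {H : Subgroup G} [Fintype (normalizer (H : Set G))]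
    (hTI : IsTISubset (H : Set G)) (η : H → ℂ) (x : H) (hx : x ≠ 1) :
    ∑ y : G, extendByZero H η (y⁻¹ * (x : G) * y) =
      ∑ y : normalizer (H : Set G), η (cjH H y x) := by
  classical
  rw [Fintype.sum_equiv (Equiv.inv G) _ (fun y => extendByZero H η (y * (x : G) * y⁻¹))
    (fun y => by simp)]
  have hout : ∀ y : G, y ∉ normalizer (H : Set G) →
      extendByZero H η (y * (x : G) * y⁻¹) = 0 := fun y hy => by
    refine extendByZero_of_not_mem _ _ fun hm => hx (Subtype.ext ?_)
    exact hTI y hy x x.2 hm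
  rw [← Finset.sum_subset (Finset.subset_univ ((normalizer (H : Set G) : Set G).toFinset))
    (fun y _ hy => hout y (fun hm => hy (Set.mem_toFinset.mpr hm)))]
  rw [Finset.sum_subtype ((normalizer (H : Set G) : Set G).toFinset)
    (p := fun y => y ∈ normalizer (H : Set G)) (fun y => Set.mem_toFinset)]
  refine Finset.sum_congr rfl fun y _ => ?_
  rw [extendByZero_of_mem H η ((mem_normalizer_iff.mp y.2 _).mp x.2)]
  rfl

/-- Inner product of functions induced from a TI subgroup. -/
theorem inner_indFun_TI_subgroup {H : Subgroup G} [Fintype H] [Fintype (normalizer (H : Set G))]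
    (hTI : IsTISubset (H : Set G)) (θ η : H → ℂ) (hθ : θ 1 = 0) :
    classInner (indFun H θ) (indFun H η) =
      (Nat.card H : ℂ)⁻¹ * ∑ y : normalizer (H : Set G), classInner θ (fun x => η (cjH H y x)) := by
  rw [inner_indFun H θ (isClassFunction_indFun H η)]
  simp only [inner_def]
  rw [← Finset.mul_sum, Finset.sum_comm, Finset.mul_sum, Finset.mul_sum, Finset.mul_sum]
  refine Finset.sum_congr rfl fun x _ => ?_
  by_cases hx : x = 1
  · subst hx
    simp [hθ]
  rw [indFun_apply, sum_extend_eq hTI η x hx, map_mul, map_inv₀, Complex.conj_natCast, map_sum,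
    Finset.mul_sum, Finset.mul_sum, Finset.mul_sum, Finset.mul_sum, Finset.mul_sum]
  refine Finset.sum_congr rfl fun y _ => ?_
  ring

theorem phi_one (H : Subgroup G) (lam : H →* ℂˣ) : phi H lam 1 = 0 := by
  rw [phi, indFun_one_apply]; simp

theorem isGeneralized_phi (H : Subgroup G) (lam : H →* ℂˣ) :
    IsGeneralizedCharacter G (phi H lam) :=
  isGeneralized_indFun H ⟨fun _ => 1, fun x => (lam x : ℂ), isCharacter_one,
    isCharacter_of_irr (isIrrCharacter_linear lam), rfl⟩

theorem phi_supp (H : Subgroup G) (lam : H →* ℂˣ) {g : G} (h : phi H lam g ≠ 0) :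
    ∃ x : G, x * g * x⁻¹ ∈ H := by
  by_contra hn
  push Not at hn
  apply h
  rw [phi, indFun_apply, Finset.sum_eq_zero, mul_zero]
  intro y _
  exact extendByZero_of_not_mem _ _ (by simpa using hn y⁻¹)

theorem conj_phi (H : Subgroup G) (lam : H →* ℂˣ) (g : G) :
    conj (phi H lam g) = phi H lam⁻¹ g := by
  classical
  haveI := Fintype.ofFinite H
  rw [phi, phi, indFun_apply, indFun_apply, map_mul, map_inv₀, Complex.conj_natCast, map_sum]
  congr 1
  refine Finset.sum_congr rfl fun y _ => ?_
  by_cases hy : y⁻¹ * g * y ∈ H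
  · rw [extendByZero_of_mem _ _ hy, extendByZero_of_mem _ _ hy, map_sub, map_one,
      MonoidHom.inv_apply]
    have hinv := char_inv (isCharacter_of_irr (isIrrCharacter_linear lam)) ⟨y⁻¹ * g * y, hy⟩
    simp only [map_inv] at hinv
    rw [← hinv]
  · rw [extendByZero_of_not_mem _ _ hy, extendByZero_of_not_mem _ _ hy, map_zero]

theorem inner_phi_one {H : Subgroup G} [Fintype H] {lam : H →* ℂˣ} (hlam : lam ≠ 1) :
    classInner (phi H lam) (fun _ => 1) = 1 := by
  classical
  rw [phi, inner_indFun H _ (χ := fun _ : G => (1 : ℂ)) (isClassFunction_of_isCharacter isCharacter_one)]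
  have h1 : (fun x : H => 1 - (lam x : ℂ)) = ((linIrr (1 : H →* ℂˣ)) : H → ℂ) - (linIrr lam : H → ℂ) :=
    funext fun x => by simp [linIrr_apply]
  have h2 : (fun _ : H => (1 : ℂ)) = ((linIrr (1 : H →* ℂˣ)) : H → ℂ) := funext fun x => by simp [linIrr_apply]
  rw [h1, h2, CfsgLib.Chars.inner_sub_left, inner_irr, inner_irr, if_pos rfl,
    if_neg (fun e => hlam (linIrr_injective e)), sub_zero]

theorem inner_phi {H : Subgroup G} [Fintype H] (hTI : IsTISubset (H : Set G))
    {lam mu : H →* ℂˣ} (hlam : lam ≠ 1) (hmu : mu ≠ 1) :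
    classInner (phi H lam) (phi H mu) =
      (H.relIndex (normalizer (H : Set G)) : ℂ) + (Nat.card H : ℂ)⁻¹ *
        (Nat.card {y : normalizer (H : Set G) // mu.comp (cjH H y) = lam} : ℂ) := by
  classical
  haveI := Fintype.ofFinite (normalizer (H : Set G))
  rw [phi, phi, inner_indFun_TI_subgroup hTI _ _ (by simp)]
  have h1 : ∀ y : normalizer (H : Set G),
      classInner (fun x : H => 1 - (lam x : ℂ)) (fun x => 1 - (mu (cjH H y x) : ℂ)) =
        1 + if mu.comp (cjH H y) = lam then 1 else 0 := by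
    intro y
    have := inner_one_sub lam (mu.comp (cjH H y))
    rw [if_neg (comp_cjH_ne_one hmu y), if_neg hlam, sub_zero, sub_zero] at this
    simp only [@eq_comm _ lam] at this
    exact this
  rw [Finset.sum_congr rfl fun y _ => h1 y, Finset.sum_add_distrib, Finset.sum_const,
    Finset.card_univ, nsmul_one, Finset.sum_boole, mul_add, ← Fintype.card_subtype,
    ← Nat.card_eq_fintype_card, ← Nat.card_eq_fintype_card]
  congr 1
  have hcard : Nat.card H * H.relIndex (normalizer (H : Set G)) =
      Nat.card (normalizer (H : Set G)) := by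
    rw [← relIndex_bot_left H, relIndex_mul_relIndex _ _ _ bot_le
      le_normalizer, relIndex_bot_left]
  rw [← hcard, Nat.cast_mul, inv_mul_cancel_left₀ (Nat.cast_ne_zero.mpr Nat.card_pos.ne')]

theorem card_fiber [Finite G] {H : Subgroup G}
    (hfrob : ∀ h ∈ H, h ≠ 1 → normalizer (H : Set G) ⊓ centralizer ({h} : Set G) ≤ H)
    {mu : H →* ℂˣ} (hmu : mu ≠ 1) (y₀ : normalizer (H : Set G)) :
    Nat.card {y : normalizer (H : Set G) // mu.comp (cjH H y) = mu.comp (cjH H y₀)} =
      Nat.card H := by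
  refine Nat.card_congr
    { toFun := fun y => ⟨(y.1 : G) * (y₀ : G)⁻¹, ?_⟩
      invFun := fun x => ⟨⟨x, le_normalizer x.2⟩ * y₀, ?_⟩
      left_inv := fun y => Subtype.ext (Subtype.ext (by simp))
      right_inv := fun x => Subtype.ext (by simp) }
  · refine mem_of_comp_cjH_eq hfrob hmu (t := y.1 * y₀⁻¹) ?_
    rw [cjH_mul, ← MonoidHom.comp_assoc, y.2, comp_cjH_inv_self]
  · rw [cjH_mul, ← MonoidHom.comp_assoc, comp_cjH_of_mem mu (a := ⟨x, le_normalizer x.2⟩) x.2]

/-- Conjugate linear characters give the same induced function. -/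
theorem phi_comp_cjH {H : Subgroup G} (lam : H →* ℂˣ) (t : normalizer (H : Set G)) :
    phi H (lam.comp (cjH H t)) = phi H lam := by
  classical
  haveI := Fintype.ofFinite H
  funext g
  rw [phi, phi, indFun_apply, indFun_apply]
  congr 1
  refine Fintype.sum_equiv (Equiv.mulRight (t : G)⁻¹) _ _ fun y => ?_
  simp only [Equiv.coe_mulRight]
  have e : (y * (t : G)⁻¹)⁻¹ * g * (y * (t : G)⁻¹) = (t : G) * (y⁻¹ * g * y) * (t : G)⁻¹ := by
    group
  rw [e]
  by_cases hy : y⁻¹ * g * y ∈ H
  · rw [extendByZero_of_mem _ _ hy,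
      extendByZero_of_mem _ _ ((mem_normalizer_iff.mp t.2 _).mp hy)]
    rfl
  · rw [extendByZero_of_not_mem _ _ hy,
      extendByZero_of_not_mem _ _ (fun h => hy ((mem_normalizer_iff.mp t.2 _).mpr h))]

/-- The nontrivial elements conjugate into `H`. -/
def suppSet (H : Subgroup G) : Set G := {g | g ≠ 1 ∧ ∃ x : G, x * g * x⁻¹ ∈ H}

/-- Functions with the Gram matrix `e + δ`, closed under conjugation, supported in `S`. -/
structure AlphaData (G : Type u) [Group G] [Fintype G] (h : ℕ) (S : Set G) where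
  /-- number of orbits of nontrivial linear characters -/
  n : ℕ
  /-- index in the normalizer -/
  e : ℕ
  /-- the induced differences -/
  α : Fin n → G → ℂ
  /-- complex conjugation on the orbits -/
  bar : Fin n → Fin n
  two_le : 2 ≤ n
  even_n : Even n
  three_le : 3 ≤ e
  dvd_card : n * e + 1 ∣ h
  prime_card : (n * e + 1).Prime → h = n * e + 1
  bar_ne : ∀ r, bar r ≠ r
  bar_bar : ∀ r, bar (bar r) = r
  conj_α : ∀ r g, conj (α r g) = α (bar r) g
  α_gen : ∀ r, IsGeneralizedCharacter G (α r)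
  α_one : ∀ r, α r 1 = 0
  α_supp : ∀ r g, α r g ≠ 0 → g ∈ S
  inner_one : ∀ r, classInner (α r) (fun _ => 1) = 1
  inner_self : ∀ r, classInner (α r) (α r) = (e : ℂ) + 1
  inner_ne : ∀ r s, r ≠ s → classInner (α r) (α s) = (e : ℂ)

/-- Such functions together with the exceptional characters they determine. -/
structure Piece {G : Type u} [Group G] [Fintype G] (h : ℕ) (S : Set G) extends AlphaData G h S where
  /-- the exceptional characters -/
  ψ : Fin n → IrrCharacter G
  /-- the sign -/
  ε : ℤ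
  ε_sq : ε = 1 ∨ ε = -1
  ψ_inj : Function.Injective ψ
  conj_ψ : ∀ r, conjIrr (ψ r) = ψ (bar r)
  diff : ∀ r s, α r - α s = (ε : ℂ) • ((ψ s : G → ℂ) - ψ r)

theorem nilpotent_of_frobenius {H : Subgroup G}
    (hfrob : ∀ h ∈ H, h ≠ 1 → normalizer (H : Set G) ⊓ centralizer ({h} : Set G) ≤ H)
    (hlt : H < normalizer (H : Set G)) : Group.IsNilpotent H := by
  set N := normalizer (H : Set G) with hN
  have hne : H.relIndex N ≠ 1 := fun h => hlt.not_ge (relIndex_eq_one.mp h)
  obtain ⟨p, hp, hd⟩ := Nat.exists_prime_and_dvd hne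
  haveI := Fact.mk hp
  obtain ⟨P₀⟩ : Nonempty (Sylow p N) := inferInstance
  set P := (P₀ : Subgroup N).map N.subtype with hP
  have hPN : P ≤ N := map_subtype_le _
  have hPp : IsPGroup p P := P₀.2.map _
  have hPne : P ≠ ⊥ := by
    intro h
    have h2 := P₀.ne_bot_of_dvd_card (hd.trans (H.subgroupOf N).index_dvd_card)
    exact h2 ((map_eq_bot_iff_of_injective _ N.subtype_injective).mp h)
  have hPH : P ⊓ H = ⊥ := by
    by_contra hb
    haveI : ((P ⊓ H).subgroupOf P).Normal := by
      rw [inf_subgroupOf_left]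
      exact normal_subgroupOf_of_le_normalizer hPN
    have hb' : (P ⊓ H).subgroupOf P ≠ ⊥ := by
      rw [Ne, subgroupOf_eq_bot, disjoint_iff, inf_of_le_left inf_le_left]
      exact hb
    obtain ⟨z, hz, hz1⟩ := (bot_or_exists_ne_one _).resolve_left
      (CfsgLib.PGroups.inf_center_ne_bot hPp hb')
    have hPle : P ≤ H := fun y hy => hfrob (z : G) hz.1.2 (fun h => hz1 (Subtype.ext h))
      ⟨hPN hy, by
        show y ∈ centralizer ({(z : G)} : Set G)
        rw [mem_centralizer_singleton_iff]
        exact congrArg Subtype.val (mem_center_iff.mp hz.2 ⟨y, hy⟩)⟩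
    have hle : (P₀ : Subgroup N) ≤ H.subgroupOf N := fun y hy => hPle ⟨y, hy, rfl⟩
    exact P₀.not_dvd_index (hd.trans (index_dvd_of_le hle))
  refine CfsgLib.Base.IsFPF.isNilpotent (A := P) ⟨hPN, fun a ha ha1 => ?_⟩ hPne
  rw [eq_bot_iff]
  rintro v ⟨hv, hva⟩
  rw [mem_bot]
  by_contra hv1
  have haH : a ∈ H := hfrob v hv hv1 ⟨hPN ha, by
    show a ∈ centralizer ({v} : Set G)
    rw [mem_centralizer_singleton_iff]
    exact (mem_centralizer_singleton_iff.mp hva).symm⟩
  exact ha1 (mem_bot.mp (hPH ▸ ⟨ha, haH⟩))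

theorem exists_alphaData (hodd : Odd (Nat.card G)) {H : Subgroup G} (hH1 : H ≠ ⊥)
    (hTI : IsTISubset (H : Set G))
    (hfrob : ∀ h ∈ H, h ≠ 1 → normalizer (H : Set G) ⊓ centralizer ({h} : Set G) ≤ H)
    (hlt : H < normalizer (H : Set G)) :
    ∃ P : AlphaData G (Nat.card H) (suppSet H), P.e = H.relIndex (normalizer (H : Set G)) := by
  classical
  haveI := Fintype.ofFinite H
  set Nz := normalizer (H : Set G) with hNz
  haveI hnil := nilpotent_of_frobenius hfrob hlt
  haveI : Nontrivial H := (nontrivial_iff_ne_bot H).mpr hH1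
  -- nilpotent groups: perfect only if trivial, abelianisation cyclic only if cyclic
  have hgen : ∀ K : Subgroup H, K ⊔ commutator H = ⊤ → K = ⊤ := by
    intro K hK
    by_contra hne
    obtain ⟨M, hM, hKM⟩ := (eq_top_or_exists_le_coatom K).resolve_left hne
    haveI : M.Normal := (Group.normalizerCondition_of_isNilpotent (G := H)).normal_of_coatom M hM
    refine hM.1 (top_le_iff.mp (hK ▸ sup_le hKM ?_))
    have hs : IsSimpleGroup (H ⧸ M) := by
      refine { exists_pair_ne := ?_, eq_bot_or_eq_top_of_normal := fun K hK => ?_ }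
      · obtain ⟨x, hx⟩ : ∃ x, x ∉ M := by
          by_contra h
          exact hM.1 (eq_top_iff.mpr fun x _ => not_not.mp fun hx => h ⟨x, hx⟩)
        exact ⟨(x : H ⧸ M), 1, fun h => hx ((QuotientGroup.eq_one_iff x).mp h)⟩
      · have hKc : M ≤ K.comap (QuotientGroup.mk' M) := fun x hx => by
          rw [mem_comap, show QuotientGroup.mk' M x = 1 from (QuotientGroup.eq_one_iff x).mpr hx]
          exact one_mem _
        have hmc := map_comap_eq_self_of_surjective (QuotientGroup.mk'_surjective M) K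
        rcases hKc.lt_or_eq with h | h
        · exact Or.inr (by rw [← hmc, hM.2 _ h, map_top_of_surjective _ (QuotientGroup.mk'_surjective M)])
        · exact Or.inl (by rw [← hmc, ← h, QuotientGroup.map_mk'_self])
    haveI : Group.IsSolvable (H ⧸ M) := inferInstance
    refine (Normal.quotient_commutative_iff_commutator_le).mp ⟨⟨fun a b => ?_⟩⟩
    exact IsSimpleGroup.comm_iff_isSolvable.mpr inferInstance a b
  -- the linear characters and their orbits
  let Λ := {lam : H →* ℂˣ // lam ≠ 1}
  haveI := Fintype.ofFinite (H →* ℂˣ)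
  have hN1 : 1 < (commutator H).index := by
    have h0 : (commutator H).index ≠ 0 := index_ne_zero_of_finite
    have h1 : (commutator H).index ≠ 1 := fun h => by
      rw [index_eq_one] at h
      exact (bot_ne_top : (⊥ : Subgroup H) ≠ ⊤) (hgen ⊥ (by rw [bot_sup_eq, h]))
    omega
  have hΛ : Nat.card Λ + 1 = (commutator H).index := by
    rw [← card_monoidHom_units, Nat.card_eq_fintype_card, Fintype.card_subtype_compl,
      Fintype.card_subtype_eq, ← Nat.card_eq_fintype_card]
    have := Nat.card_pos (α := H →* ℂˣ)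
    omega
  let s : Setoid Λ :=
    { r := fun a b => ∃ y : Nz, b.1 = a.1.comp (cjH H y)
      iseqv := ⟨fun a => ⟨1, by rw [cjH_one, MonoidHom.comp_id]⟩,
        fun {a b} ⟨y, hy⟩ => ⟨y⁻¹, by rw [hy, comp_cjH_inv_self]⟩,
        fun {a b c} ⟨y, hy⟩ ⟨z, hz⟩ => ⟨y * z, by rw [hz, hy, cjH_mul, MonoidHom.comp_assoc]⟩⟩ }
  haveI : Fintype (Quotient s) := Fintype.ofFinite _
  set n := Fintype.card (Quotient s) with hn
  let eqv : Fin n ≃ Quotient s := (Fintype.equivFin _).symm
  let lam : Fin n → Λ := fun r => (eqv r).out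
  have hlam_inj : ∀ r t, ∀ y : Nz, (lam r).1.comp (cjH H y) = (lam t).1 → r = t := by
    intro r t y h
    have : (eqv r) = (eqv t) := by
      rw [← (eqv r).out_eq, ← (eqv t).out_eq]
      exact Quotient.sound ⟨y, h.symm⟩
    exact eqv.injective this
  have hlam_surj : ∀ a : Λ, ∃ r, ∃ y : Nz, a.1 = (lam r).1.comp (cjH H y) := by
    intro a
    refine ⟨eqv.symm (Quotient.mk s a), ?_⟩
    show s.r _ a
    refine Quotient.exact ?_
    rw [Quotient.out_eq, Equiv.apply_symm_apply]
  set e := H.relIndex Nz with he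
  have hHN : Nat.card H * e = Nat.card Nz := by
    rw [← relIndex_bot_left H, relIndex_mul_relIndex _ _ _ bot_le le_normalizer, relIndex_bot_left]
  -- each orbit has length `e`
  have hcard : Nat.card Λ = n * e := by
    let F : Fin n × Nz → Λ := fun z => ⟨(lam z.1).1.comp (cjH H z.2), comp_cjH_ne_one (lam z.1).2 z.2⟩
    have hfib : ∀ a : Λ, Nat.card {z : Fin n × Nz // F z = a} = Nat.card H := by
      intro a
      obtain ⟨r, y₀, hy₀⟩ := hlam_surj a
      rw [← card_fiber hfrob (lam r).2 y₀]
      refine Nat.card_congr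
        { toFun := fun z => ⟨z.1.2, ?_⟩
          invFun := fun y => ⟨(r, y.1), Subtype.ext (y.2.trans hy₀.symm)⟩
          left_inv := fun z => ?_
          right_inv := fun y => rfl }
      · have h1 : (lam z.1.1).1.comp (cjH H z.1.2) = (lam r).1.comp (cjH H y₀) :=
          (congrArg Subtype.val z.2).trans hy₀
        have : z.1.1 = r := hlam_inj _ _ (z.1.2 * y₀⁻¹) (by
          rw [cjH_mul, ← MonoidHom.comp_assoc, h1, comp_cjH_inv_self])
        rw [this] at h1
        exact h1
      · have h1 : (lam z.1.1).1.comp (cjH H z.1.2) = (lam r).1.comp (cjH H y₀) :=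
          (congrArg Subtype.val z.2).trans hy₀
        have : z.1.1 = r := hlam_inj _ _ (z.1.2 * y₀⁻¹) (by
          rw [cjH_mul, ← MonoidHom.comp_assoc, h1, comp_cjH_inv_self])
        exact Subtype.ext (Prod.ext this.symm rfl)
    have h1 : Nat.card (Fin n × Nz) = Nat.card Λ * Nat.card H := by
      haveI := Fintype.ofFinite Λ
      rw [← Nat.card_congr (Equiv.sigmaFiberEquiv F), Nat.card_sigma,
        Finset.sum_congr rfl fun a _ => hfib a, Finset.sum_const, Finset.card_univ, smul_eq_mul,
        Nat.card_eq_fintype_card (α := Λ)]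
    rw [Nat.card_prod, Nat.card_fin, ← hHN] at h1
    exact Nat.eq_of_mul_eq_mul_right (Nat.card_pos (α := H)) (by rw [← h1]; ring)
  -- conjugation
  have hoddH : Odd (Nat.card H) := hodd.of_dvd_nat (card_subgroup_dvd_card H)
  have hinv : ∀ r : Fin n, ¬ ∃ y : Nz, (lam r).1⁻¹ = (lam r).1.comp (cjH H y) := by
    rintro r ⟨y, hy⟩
    have h2 : (lam r).1.comp (cjH H (y * y)) = (lam r).1 := by
      rw [cjH_mul, ← MonoidHom.comp_assoc, ← hy, MonoidHom.inv_comp, ← hy, inv_inv]
    have hyy := mem_of_comp_cjH_eq hfrob (lam r).2 h2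
    have hyH : (y : G) ∈ H := by
      obtain ⟨k, hk⟩ := (hodd.of_dvd_nat (orderOf_dvd_natCard (y : G)))
      have h3 : (y : G) = ((y : G) * y) ^ (k + 1) := by
        rw [← pow_two, ← pow_mul, show 2 * (k + 1) = orderOf (y : G) + 1 by omega, pow_succ,
          pow_orderOf_eq_one, one_mul]
      rw [h3]
      exact pow_mem (by simpa using hyy) _
    rw [comp_cjH_of_mem _ hyH] at hy
    refine (lam r).2 (MonoidHom.ext fun x => ?_)
    have hx : (lam r).1 x * (lam r).1 x = 1 := by
      nth_rewrite 1 [← hy]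
      rw [MonoidHom.inv_apply, inv_mul_cancel]
    obtain ⟨k, hk⟩ := hoddH.of_dvd_nat (orderOf_dvd_natCard x)
    have h4 : (lam r).1 x ^ (2 * k + 1) = 1 := by rw [← map_pow, ← hk, pow_orderOf_eq_one, map_one]
    rwa [pow_succ, pow_mul, pow_two, hx, one_pow, one_mul] at h4
  have hne_inv : ∀ a : Λ, a.1⁻¹ ≠ 1 := fun a h => a.2 (MonoidHom.ext fun x => by
    have h' := DFunLike.congr_fun h x
    rwa [MonoidHom.inv_apply, MonoidHom.one_apply, inv_eq_one] at h')
  choose bar hbar using fun r => hlam_surj ⟨(lam r).1⁻¹, hne_inv _⟩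
  choose bary hbary using hbar
  have hbar_ne : ∀ r, bar r ≠ r := fun r h => hinv r ⟨bary r, by
    have := hbary r
    rw [h] at this
    exact this⟩
  have hbar_bar : ∀ r, bar (bar r) = r := by
    intro r
    have h1 := hbary r
    have h2 := hbary (bar r)
    simp only at h1 h2
    refine hlam_inj _ _ (bary (bar r) * bary r) ?_
    rw [cjH_mul, ← MonoidHom.comp_assoc, ← h2, MonoidHom.inv_comp, ← h1, inv_inv]
  have hn_even : Even n := by
    have hperm : ∀ x : Fin n, (Function.Involutive.toPerm bar hbar_bar) x ≠ x := hbar_ne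
    have h2 : ((Function.Involutive.toPerm bar hbar_bar) ^ 2 ^ 1 : Equiv.Perm (Fin n)) = 1 :=
      Equiv.ext fun x => by
        rw [pow_one, pow_two, Equiv.Perm.mul_apply, Equiv.Perm.one_apply]
        exact hbar_bar x
    by_contra hnodd
    obtain ⟨x, hx⟩ := Equiv.Perm.exists_fixed_point_of_prime (p := 2)
      (by rw [Fintype.card_fin]; exact fun h => hnodd (even_iff_two_dvd.mpr h)) h2
    exact hperm x hx
  have hN1' : 2 ≤ n := by
    obtain ⟨k, hk⟩ := hn_even
    rcases Nat.eq_zero_or_pos n with h | h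
    · rw [h, zero_mul] at hcard
      omega
    · omega
  have he3 : 3 ≤ e := by
    have h1 : Odd e := hodd.of_dvd_nat ((Dvd.intro_left _ hHN).trans (card_subgroup_dvd_card Nz))
    have h2 : e ≠ 1 := fun h => hlt.not_ge (relIndex_eq_one.mp h)
    obtain ⟨k, hk⟩ := h1
    omega
  have hindex : (commutator H).index = n * e + 1 := by omega
  -- the exceptional characters
  let α : Fin n → G → ℂ := fun r => phi H (lam r).1
  have hα : ∀ r t, classInner (α r) (α t) = (e : ℂ) + if r = t then 1 else 0 := by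
    intro r t
    rw [inner_phi hTI (lam r).2 (lam t).2]
    congr 1
    by_cases h : r = t
    · subst h
      rw [if_pos rfl]
      have h1 := card_fiber hfrob (lam r).2 1
      rw [cjH_one, MonoidHom.comp_id] at h1
      rw [h1, inv_mul_cancel₀ (Nat.cast_ne_zero.mpr Nat.card_pos.ne')]
    · rw [if_neg h]
      have : IsEmpty {y : Nz // (lam t).1.comp (cjH H y) = (lam r).1} :=
        ⟨fun y => h (hlam_inj t r y.1 y.2).symm⟩
      rw [Nat.card_eq_zero.mpr (Or.inl this), Nat.cast_zero, mul_zero]
  have hconjα : ∀ r g, conj (α r g) = α (bar r) g := by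
    intro r g
    show conj (phi H (lam r).1 g) = phi H (lam (bar r)).1 g
    have h1 := hbary r
    simp only at h1
    rw [conj_phi, h1, phi_comp_cjH]
  refine ⟨{ n := n, e := e, α := α, bar := bar,
            two_le := hN1', even_n := hn_even, three_le := he3,
            dvd_card := hindex ▸ index_dvd_card _, prime_card := ?_, bar_ne := hbar_ne,
            bar_bar := hbar_bar, conj_α := hconjα,
            α_gen := fun r => isGeneralized_phi H _, α_one := fun r => phi_one H _,
            α_supp := fun r g h => ⟨fun h1 => h (h1 ▸ phi_one H _), phi_supp H _ h⟩,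
            inner_one := fun r => inner_phi_one (lam r).2,
            inner_self := fun r => by rw [hα, if_pos rfl],
            inner_ne := fun r t h => by rw [hα, if_neg h, add_zero] }, rfl⟩
  intro hp
  haveI := Fact.mk hp
  have hc : IsCyclic (H ⧸ commutator H) := isCyclic_of_prime_card (p := n * e + 1)
    (by rw [← index_eq_card, hindex])
  obtain ⟨g, hg⟩ := hc.exists_generator
  obtain ⟨g, rfl⟩ := QuotientGroup.mk_surjective g
  have htop : zpowers g = ⊤ := hgen _ (eq_top_iff.mpr fun x _ => by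
    obtain ⟨k, hk⟩ := mem_zpowers_iff.mp (hg (x : H ⧸ commutator H))
    rw [← QuotientGroup.mk_zpow, QuotientGroup.eq] at hk
    rw [show x = g ^ k * ((g ^ k)⁻¹ * x) by group]
    exact mul_mem_sup (zpow_mem (mem_zpowers g) k) hk)
  have hcom : commutator H = ⊥ := by
    rw [commutator_eq_bot_iff_center_eq_top, eq_top_iff]
    intro x _
    rw [mem_center_iff]
    intro y
    obtain ⟨a, rfl⟩ := mem_zpowers_iff.mp (htop ▸ mem_top x)
    obtain ⟨b, rfl⟩ := mem_zpowers_iff.mp (htop ▸ mem_top y)
    rw [← zpow_add, ← zpow_add, add_comm]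
  rw [hcom, index_bot] at hindex
  exact hindex

/-- The exceptional characters determined by a Gram matrix `e + δ`. -/
theorem AlphaData.exists_piece {h : ℕ} {S : Set G} (P : AlphaData G h S) :
    ∃ Q : Piece h S, Q.e = P.e := by
  classical
  obtain ⟨n, e, α, bar, hN1', hn_even, he3, hdvd, hprime, hbar_ne, hbar_bar, hconjα, hgen, hone,
    hsupp, hi1, hself, hne⟩ := P
  have hα : ∀ r t, classInner (α r) (α t) = (e : ℂ) + if r = t then 1 else 0 := by
    intro r t
    by_cases h : r = t
    · subst h; rw [if_pos rfl, hself]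
    · rw [if_neg h, add_zero, hne r t h]
  let r₀ : Fin n := ⟨0, by omega⟩
  obtain ⟨ε, hε, μ, hμ, hμinj, hτ⟩ := coherent_family n r₀ (fun r => α r₀ - α r) (sub_self _)
    (fun r => by
      obtain ⟨a, b, ha, hb, hab⟩ := hgen r₀
      obtain ⟨c, d, hc, hd, hcd⟩ := hgen r
      refine ⟨a + d, b + c, isCharacter_add ha hd, isCharacter_add hb hc, ?_⟩
      show α r₀ - α r = _
      rw [hab, hcd]
      abel)
    (fun r => by simp [hone])
    (fun r t hr ht => by
      rw [CfsgLib.Chars.inner_sub_left, CfsgLib.Chars.inner_sub_right,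
        CfsgLib.Chars.inner_sub_right, hα, hα, hα, hα, if_pos rfl, if_neg (Ne.symm ht), if_neg hr]
      split <;> ring)
  obtain ⟨εz, hεz, rfl⟩ : ∃ z : ℤ, (z = 1 ∨ z = -1) ∧ ε = (z : ℂ) := by
    rcases hε with h | h
    · exact ⟨1, Or.inl rfl, by simp [h]⟩
    · exact ⟨-1, Or.inr rfl, by simp [h]⟩
  let ψ : Fin n → IrrCharacter G := fun r => ⟨μ r, hμ r⟩
  have hdiff : ∀ r t, α r - α t = (εz : ℂ) • ((ψ t : G → ℂ) - ψ r) := by
    intro r t
    have h1 := hτ r
    have h2 := hτ t
    show α r - α t = (εz : ℂ) • (μ t - μ r)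
    rw [show μ t - μ r = (μ t - μ r₀) - (μ r - μ r₀) by abel, smul_sub, ← h1, ← h2]
    abel
  have hψinj : Function.Injective ψ := fun a b h => hμinj (congrArg Subtype.val h)
  refine ⟨{ n := n, e := e, α := α, bar := bar, two_le := hN1', even_n := hn_even, three_le := he3,
            dvd_card := hdvd, prime_card := hprime, bar_ne := hbar_ne, bar_bar := hbar_bar,
            conj_α := hconjα, α_gen := hgen, α_one := hone, α_supp := hsupp, inner_one := hi1,
            inner_self := hself, inner_ne := hne,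
            ψ := ψ, ε := εz, ε_sq := hεz, ψ_inj := hψinj, conj_ψ := ?_, diff := hdiff }, rfl⟩
  intro r
  set t := bar r with ht
  have hconj : (εz : ℂ) • ((conjIrr (ψ t) : G → ℂ) - conjIrr (ψ r)) =
      (εz : ℂ) • ((ψ r : G → ℂ) - ψ t) := by
    rw [← hdiff t r]
    funext g
    have h2 := congrArg conj (congrFun (hdiff r t) g)
    simp only [Pi.sub_apply, Pi.smul_apply, smul_eq_mul, map_mul, map_sub, map_intCast,
      hconjα, ht, hbar_bar] at h2
    exact h2.symm
  have hε0 : (εz : ℂ) ≠ 0 := by rcases hεz with h | h <;> simp [h]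
  have h3 := congrArg (fun f => classInner f (ψ r : G → ℂ)) (smul_right_injective _ hε0 hconj)
  simp only [CfsgLib.Chars.inner_sub_left, inner_irr, if_pos rfl,
    if_neg (fun e : ψ t = ψ r => hbar_ne r (hψinj e))] at h3
  have h4 : conjIrr (ψ t) = ψ r := by
    by_contra h
    rw [if_neg h] at h3
    split at h3 <;> norm_num at h3
  rw [← h4, conjIrr_conjIrr]


theorem exists_piece (hodd : Odd (Nat.card G)) {H : Subgroup G} (hH1 : H ≠ ⊥)
    (hTI : IsTISubset (H : Set G))
    (hfrob : ∀ h ∈ H, h ≠ 1 → normalizer (H : Set G) ⊓ centralizer ({h} : Set G) ≤ H)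
    (hlt : H < normalizer (H : Set G)) :
    ∃ P : Piece (Nat.card H) (suppSet H), P.e = H.relIndex (normalizer (H : Set G)) := by
  obtain ⟨P, hP⟩ := exists_alphaData hodd hH1 hTI hfrob hlt
  obtain ⟨Q, hQ⟩ := P.exists_piece
  exact ⟨Q, hQ.trans hP⟩

end CfsgLib.CNGroups
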