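import Cfsg.Agent.Lib.CNGroups.Structure
import Cfsg.Agent.Lib.PLocal.ZJLocal
import Cfsg.Agent.Lib.OddOrder.ActionPStable
import Cfsg.Agent.Lib.OddOrder.MinSimple
import Cfsg.Agent.Lib.Transfer.ThompsonFactor
import Cfsg.Agent.Lib.Transfer.Control
import Cfsg.Agent.Lib.CharsMore.Frobenius

/-!
# Minimal simple CN-groups of odd order
-/

set_option autoImplicit false
set_option linter.style.haveILetI false
set_option linter.unusedSectionVars false

namespace CfsgLib.CNGroups

open Subgroup Cfsg CfsgLib.PLocal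
open scoped Pointwise

universe u

variable {G : Type u} [Group G] [Finite G]

theorem mem_of_subgroup_pow {K : Subgroup G} {p : ℕ} [Fact p.Prime] (hK : IsPGroup p K) {x : G} (hx : x ∈ K) :
    ∃ k, orderOf x = p ^ k := by
  obtain ⟨k, hk⟩ := IsPGroup.iff_orderOf.mp hK ⟨x, hx⟩
  exact ⟨k, by rwa [Subgroup.orderOf_mk] at hk⟩

theorem not_isThreeStep_aux (hG : IsMinSimpleOddOrder G) (hCN : IsCNGroup G) {p : ℕ}
    [hp : Fact p.Prime] (P : Sylow p G) {M : Subgroup G} (hPM : (P : Subgroup G) ≤ M)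
    (hM : ∀ Q : Subgroup G, Q ≤ (P : Subgroup G) → Q ≠ ⊥ → normalizer (Q : Set G) ≤ M)
    {N : Subgroup M} [N.Normal] (hN : ∃ n, N.index = p ^ n) (hNt : N ≠ ⊤) : False := by
  haveI := CfsgLib.OddOrder.minSimple_isSimple hG
  have hctrl : ∀ x ∈ (P : Subgroup G), ∀ g : G, g * x * g⁻¹ ∈ (P : Subgroup G) →
      ∃ k ∈ M, k * x * k⁻¹ = g * x * g⁻¹ := by
    intro x hx g hg
    by_cases hx1 : x = 1
    · exact ⟨1, one_mem _, by simp [hx1]⟩
    have key : ∀ (A : Set G) (g : G), CfsgLib.Transfer.FusionChain P A g →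
        (∃ a ∈ A, a ≠ 1) → g ∈ M := by
      intro A g hc
      induction hc with
      | nil A => exact fun _ => one_mem _
      | @cons A g Q y hyN hP hQ hA _ ih =>
        rintro ⟨a, ha, ha1⟩
        refine M.mul_mem (hM _ inf_le_left (fun h => ha1 ?_) hyN)
          (ih ⟨_, ⟨a, ha, rfl⟩, fun h => ha1 ?_⟩)
        · exact mem_bot.mp (h ▸ hA ha)
        · simpa [mul_assoc] using congrArg (fun w => y * w * y⁻¹) h
    refine ⟨g, ?_, rfl⟩
    have := key {x} g⁻¹ (CfsgLib.Transfer.fusionChain P (Set.singleton_subset_iff.mpr hx)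
      (fun a ha => by rw [Set.mem_singleton_iff] at ha; rw [ha, inv_inv]; exact hg)) ⟨x, rfl, hx1⟩
    exact inv_mem_iff.mp this
  have h1 := CfsgLib.Transfer.inf_pResidual_le_of_fusion P hPM hctrl
  have hres : Cfsg.pResidual p G = ⊤ := by
    haveI := CfsgLib.Transfer.pResidual_normal (G := G) (p := p)
    refine (Subgroup.Normal.eq_bot_or_eq_top (H := Cfsg.pResidual p G) inferInstance).resolve_left
      fun hb => hG.2.2.1 ?_
    have hpg : IsPGroup p G := IsPGroup.iff_orderOf.mpr fun g => by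
      refine ⟨_, Nat.eq_prime_pow_of_unique_prime_dvd (orderOf_pos g).ne' fun {d} hd hdd => ?_⟩
      by_contra hdp
      have ho := orderOf_pow_orderOf_div (orderOf_pos g).ne' hdd
      have hmem : g ^ (orderOf g / d) ∈ Cfsg.pResidual p G := Subgroup.subset_closure (by
        show Nat.Coprime _ _
        rw [ho]; exact (Nat.coprime_primes hd hp.out).mpr hdp)
      rw [hb, mem_bot] at hmem
      rw [hmem, orderOf_one] at ho
      exact hd.ne_one ho.symm
    haveI := hpg.isNilpotent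
    exact ⟨⟨fun a b => (CommGroup.mul_comm a b : a * b = b * a)⟩⟩
  rw [hres, inf_top_eq] at h1
  have h2 : (P : Subgroup G).subgroupOf M ≤ N := fun y hy => by
    obtain ⟨z, hz, hzy⟩ := h1 hy
    rw [← M.subtype_injective hzy]
    exact CfsgLib.Transfer.pResidual_le hN hz
  obtain ⟨n, hn⟩ := hN
  rcases n with _ | n
  · exact hNt (index_eq_one.mp hn)
  · exact P.not_dvd_index (((hn ▸ dvd_pow_self p (Nat.succ_ne_zero n)).trans
      (index_dvd_of_le h2)).trans (relIndex_dvd_index_of_le hPM))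

theorem not_isThreeStep_prime (hG : IsMinSimpleOddOrder G) (hCN : IsCNGroup G) (H : Subgroup G)
    (p : ℕ) [hpf : Fact p.Prime] : ¬ IsThreeStepGroup p H := by
  rintro ⟨hO, A, hA1, hAc, hAodd, hAp, hFAn, hFAt, ⟨n, hn⟩, hfpf, hquot⟩
  haveI := CfsgLib.OddOrder.minSimple_isSimple hG
  set F := pCore p H with hF
  have hHt : H ≠ ⊤ := by
    rintro rfl
    haveI : IsSimpleGroup (⊤ : Subgroup G) := (MulEquiv.isSimpleGroup_congr topEquiv).mpr inferInstance
    exact hFAt ((Subgroup.Normal.eq_bot_or_eq_top (H := F) inferInstance).elim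
      (fun h => absurd h hO) (fun h => by rw [h, top_sup_eq]))
  have hn0 : n ≠ 0 := by
    rintro rfl
    exact hFAt (index_eq_one.mp hn)
  have hFp : IsPGroup p F := CfsgLib.Base.isPGroup_pCore p H
  have hpp : p.Prime := hpf.out
  obtain ⟨T⟩ : Nonempty (Sylow p H) := inferInstance
  have hFT : F ≤ (T : Subgroup H) := CfsgLib.Base.pCore_le_sylow T
  -- an element of `T` outside `FA`
  obtain ⟨x, hxT, hxFA⟩ : ∃ x ∈ (T : Subgroup H), x ∉ F ⊔ A := by
    by_contra hc
    push Not at hc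
    exact T.not_dvd_index ((hn ▸ dvd_pow_self p hn0).trans (index_dvd_of_le hc))
  obtain ⟨S, hS⟩ := (T.2.map H.subtype).exists_le_sylow
  have hpG : p ∣ Nat.card G :=
    ((hn ▸ dvd_pow_self p hn0).trans (index_dvd_card _)).trans (card_subgroup_dvd_card H)
  have hp2 : p ≠ 2 := CfsgLib.OddOrder.minSimple_ne_two hG hpG
  obtain ⟨f, hf, hf1⟩ := (bot_or_exists_ne_one F).resolve_left hO
  -- all centralizers of `p`-elements are `p`-groups
  have hcent : ∀ z : G, z ≠ 1 → (∃ k, orderOf z = p ^ k) →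
      IsPGroup p (centralizer ({z} : Set G)) := by
    intro z hz1 ⟨k, hk⟩
    by_contra hnp
    obtain ⟨K₀, hCK, hK₀⟩ := exists_maxNil_le _ (hCN z hz1)
    have hpK₀ : p ∣ Nat.card K₀ := by
      refine dvd_trans ?_ (orderOf_dvd_natCard K₀ (hCK (mem_centralizer_singleton_iff.mpr rfl)))
      rcases k with _ | k
      · exact absurd (orderOf_eq_one_iff.mp (by rw [hk, pow_zero])) hz1
      · rw [hk]; exact dvd_pow_self p (Nat.succ_ne_zero k)
    obtain ⟨S₀, hS₀⟩ := exists_sylow_le hCN hK₀ hpK₀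
    obtain ⟨g, hg⟩ := MulAction.exists_smul_eq G S₀ S
    set K := K₀.map (MulAut.conj g).toMonoidHom with hKdef
    have hK : MaxNil K := hK₀.map _
    have hSK : (S : Subgroup G) ≤ K := by
      rw [← hg]
      intro y hy
      rw [Sylow.coe_subgroup_smul, ← CfsgLib.Base.map_conj_eq_smul] at hy
      exact map_mono hS₀ hy
    have hKpp : ¬ IsPrimePow (Nat.card K) := by
      rw [hKdef, card_map_of_injective (MulAut.conj g).injective]
      intro h
      obtain ⟨r, m, hr, hm, hrm⟩ := (isPrimePow_nat_iff _).mp h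
      obtain rfl : p = r := (Nat.prime_dvd_prime_iff_eq hpp hr).mp (hpp.dvd_of_dvd_pow (hrm ▸ hpK₀))
      exact hnp ((IsPGroup.of_card hrm.symm).to_le hCK)
    have hTK : ∀ t ∈ (T : Subgroup H), (t : G) ∈ K := fun t ht => hSK (hS ⟨t, ht, rfl⟩)
    -- `A` normalizes `K`
    have hAK : ∀ a ∈ A, (a : G) ∈ normalizer (K : Set G) := by
      intro a ha
      rw [mem_normalizer_iff_map_conj_eq]
      by_contra hne
      have hmem : (f : G) ∈ K ⊓ K.map (MulAut.conj (a : G)).toMonoidHom :=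
        ⟨hTK f (hFT hf), ((a⁻¹ * f * a : H) : G),
          hTK _ (hFT (by simpa using (inferInstance : F.Normal).conj_mem f hf a⁻¹)),
          by simp [mul_assoc]⟩
      rw [hK.ti hCN hKpp hne, mem_bot] at hmem
      exact hf1 (Subtype.ext hmem)
    obtain ⟨a, ha, ha1⟩ := (bot_or_exists_ne_one A).resolve_left hA1
    set c := x * a * x⁻¹ * a⁻¹ with hc
    have hcFA : c ∈ F ⊔ A := mul_mem (hFAn.conj_mem a (mem_sup_right ha) x)
      (inv_mem (mem_sup_right ha))
    have hcK : (c : G) ∈ K := by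
      have h1 : (a : G) * (x : G)⁻¹ * (a : G)⁻¹ ∈ K :=
        (mem_normalizer_iff.mp (hAK a ha) _).mp (K.inv_mem (hTK x hxT))
      simpa [hc, mul_assoc] using K.mul_mem (hTK x hxT) h1
    obtain ⟨u, hu, b, hb, hub⟩ := mem_sup_of_normal_left.mp hcFA
    refine hquot x hxFA a ha ha1 ?_
    show c ∈ F
    suffices b = 1 by rw [← hub, this, mul_one]; exact hu
    by_contra hb1
    have hbK : (b : G) ∈ K := by
      rw [← hub, Subgroup.coe_mul] at hcK
      exact (Subgroup.mul_mem_cancel_left K (hTK u (hFT hu))).mp hcK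
    have : f ∈ F ⊓ centralizer ({b} : Set H) := by
      refine ⟨hf, mem_centralizer_singleton_iff.mpr (Subtype.ext ?_)⟩
      refine (commute_of_coprime hK.1 (hTK f (hFT hf)) hbK ?_).eq
      obtain ⟨j, hj⟩ := mem_of_subgroup_pow hFp hf
      rw [Subgroup.orderOf_coe, Subgroup.orderOf_coe, hj]
      exact Nat.Coprime.pow_left j (Nat.Coprime.coprime_dvd_right (orderOf_dvd_natCard _ hb) hAp.symm)
    rw [hfpf b hb hb1, mem_bot] at this
    exact hf1 this
  -- local subgroups
  have hSne : (S : Subgroup G) ≠ ⊥ := S.ne_bot_of_dvd_card hpG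
  have hSt : (S : Subgroup G) ≠ ⊤ := CfsgLib.OddOrder.minSimple_ne_top_of_isSolvable hG (by
    haveI := S.2.isNilpotent; infer_instance)
  have hNt : ∀ Q : Subgroup G, IsPGroup p Q → Q ≠ ⊥ → normalizer (Q : Set G) ≠ ⊤ := by
    intro Q hQ hQ1
    exact CfsgLib.OddOrder.minSimple_normalizer_ne_top hG hQ1
      (CfsgLib.OddOrder.minSimple_ne_top_of_isSolvable hG (by
        haveI := hQ.isNilpotent; infer_instance))
  have hOp : ∀ Q : Subgroup G, IsPGroup p Q → Q ≠ ⊥ →
      pPrimeCore p ↥(normalizer (Q : Set G)) = ⊥ := by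
    intro Q hQ hQ1
    set N := normalizer (Q : Set G)
    obtain ⟨q, hq, hq1⟩ := (bot_or_exists_ne_one Q).resolve_left hQ1
    rw [eq_bot_iff_forall]
    intro y hy
    have hQN : Q ≤ N := le_normalizer
    haveI : (Q.subgroupOf N).Normal := normal_subgroupOf_of_le_normalizer le_rfl
    have hd : Disjoint (pPrimeCore p N) (Q.subgroupOf N) := by
      rw [disjoint_iff]
      refine CfsgLib.Base.inf_eq_bot_of_coprime ?_
      obtain ⟨m, hm⟩ := IsPGroup.iff_card.mp hQ
      rw [CfsgLib.Base.card_subgroupOf hQN, hm]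
      exact (CfsgLib.Base.pPrimeCore_coprime p N).pow_right m
    have hcom := Subgroup.commute_of_normal_of_disjoint _ _ inferInstance inferInstance hd y
      ⟨q, hQN hq⟩ hy hq
    have hyC : (y : G) ∈ centralizer ({q} : Set G) :=
      mem_centralizer_singleton_iff.mpr (congrArg Subtype.val hcom.eq)
    obtain ⟨j, hj⟩ := mem_of_subgroup_pow (hcent q hq1 (mem_of_subgroup_pow hQ hq)) hyC
    rw [Subgroup.orderOf_coe] at hj
    rw [← orderOf_eq_one_iff]
    refine Nat.eq_one_of_dvd_coprimes ((CfsgLib.Base.pPrimeCore_coprime p N).pow_right j)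
      (orderOf_dvd_natCard _ hy) (by rw [hj])
  have hodd2 : ∀ (L : Subgroup G) (R : Sylow 2 L), IsMulCommutative (R : Subgroup L) := by
    intro L R
    haveI := Fact.mk Nat.prime_two
    have h1 : Nat.card (R : Subgroup L) = 1 := by
      rw [R.card_eq_multiplicity, Nat.factorization_eq_zero_of_not_dvd, pow_zero]
      exact fun h => (Nat.not_even_iff_odd.mpr hG.1)
        (even_iff_two_dvd.mpr (h.trans (card_subgroup_dvd_card L)))
    haveI := (Nat.card_eq_one_iff_unique.mp h1).1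
    exact ⟨⟨fun a b => Subsingleton.elim _ _⟩⟩
  have hloc : ∀ Q : Subgroup G, IsPGroup p Q → Q ≠ ⊥ →
      pPrimeCore p ↥(normalizer (Q : Set G)) = ⊥ ∧
        IsPConstrained p ↥(normalizer (Q : Set G)) ∧ IsPStable p ↥(normalizer (Q : Set G)) := by
    intro Q hQ hQ1
    haveI := CfsgLib.OddOrder.minSimple_solvable hG (hNt Q hQ hQ1)
    refine ⟨hOp Q hQ hQ1, CfsgLib.PLocal.isPConstrained_of_isPSolvable CfsgLib.PLocal.isPSolvable_of_isSolvable,
      CfsgLib.OddOrder.isPStable_of_not_involves hp2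
        (CfsgLib.Transfer.not_involvesSL2_of_isSolvable hp2 inferInstance fun _ R => hodd2 _ R) ?_⟩
    intro hb
    haveI : (Q.subgroupOf (normalizer (Q : Set G))).Normal := normal_subgroupOf_of_le_normalizer le_rfl
    have := CfsgLib.Base.le_pCore (N := Q.subgroupOf (normalizer (Q : Set G))) hQ.comap_subtype
    replace this : Q.subgroupOf (normalizer (Q : Set G)) = ⊥ := le_bot_iff.mp (hb ▸ this)
    rw [subgroupOf_eq_bot, disjoint_iff, inf_of_le_left le_normalizer] at this
    exact hQ1 this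
  set Z := maxCenter 0 (S : Subgroup G) with hZ
  have hZ1 : Z ≠ ⊥ := CfsgLib.PLocal.maxCenter_zero_ne_bot S.2 hSne
  set M := normalizer (Z : Set G) with hMdef
  have hM : ∀ Q : Subgroup G, Q ≤ (S : Subgroup G) → Q ≠ ⊥ → normalizer (Q : Set G) ≤ M :=
    fun Q hQ hQ1 => CfsgLib.PLocal.normalizer_le_normalizer_maxCenter hp2 hloc S Q hQ hQ1
  have hSM : (S : Subgroup G) ≤ M := le_normalizer.trans (hM _ le_rfl hSne)
  have hFne : F.map H.subtype ≠ ⊥ := by
    rwa [Ne, map_eq_bot_iff_of_injective _ H.subtype_injective]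
  have hHM : H ≤ M := by
    refine le_trans ?_ (hM _ ((map_mono hFT).trans hS) hFne)
    exact le_normalizer.trans (CfsgLib.Base.normalizer_le_normalizer_map_subtype H F)
  have hZS : IsPGroup p Z := S.2.to_le (maxCenter_le 0 _)
  have hMt : M ≠ ⊤ := hNt Z hZS hZ1
  haveI := CfsgLib.OddOrder.minSimple_solvable hG hMt
  have hOM : pPrimeCore p M = ⊥ := hOp Z hZS hZ1
  have hFM : IsPGroup p (fittingSubgroup M) := by
    refine IsPGroup.iff_orderOf.mpr fun y => ?_
    refine ⟨_, Nat.eq_prime_pow_of_unique_prime_dvd (orderOf_pos y).ne' fun {r} hr hry => ?_⟩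
    by_contra hrp
    haveI := Fact.mk hr
    obtain ⟨R⟩ : Nonempty (Sylow r (fittingSubgroup M)) := inferInstance
    haveI := CfsgLib.Base.isNilpotent_fittingSubgroup M
    haveI := Sylow.characteristic_of_normal R (R.normal_of_normalizerCondition Group.normalizerCondition_of_isNilpotent)
    haveI := CfsgLib.Base.fittingSubgroup_normal' M
    have hle := CfsgLib.Base.le_pPrimeCore (p := p)
      (N := (R : Subgroup (fittingSubgroup M)).map (fittingSubgroup M).subtype) (by
        obtain ⟨m, hm⟩ := IsPGroup.iff_card.mp (R.2.map (fittingSubgroup M).subtype)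
        rw [hm]
        exact Nat.Coprime.pow_left m ((Nat.coprime_primes hr hpp).mpr hrp))
    rw [hOM, le_bot_iff, map_eq_bot_iff_of_injective _ (fittingSubgroup M).subtype_injective] at hle
    exact R.ne_bot_of_dvd_card (hry.trans (orderOf_dvd_natCard y)) hle
  rcases solvable_cases (isCNGroup_subgroup hCN M) with hmax | ⟨q, hq, hts⟩
  · -- `S` is normal in `M`
    haveI := CfsgLib.Base.fittingSubgroup_normal' M
    have hcop := hmax.hall (isCNGroup_subgroup hCN M)
    have hne : fittingSubgroup M ≠ ⊥ := by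
      haveI : Nontrivial M := (nontrivial_iff_ne_bot M).mpr fun h => hSne (le_bot_iff.mp (h ▸ hSM))
      exact hmax.ne_bot
    have hidx : ¬ p ∣ (fittingSubgroup M).index := by
      obtain ⟨m, hm⟩ := IsPGroup.iff_card.mp hFM
      rcases m with _ | m
      · exact absurd ((fittingSubgroup M).eq_bot_of_card_eq (by rw [hm, pow_zero])) hne
      · exact fun hd => hpp.ne_one (Nat.eq_one_of_dvd_coprimes hcop
          (hm ▸ dvd_pow_self p (Nat.succ_ne_zero m)) hd)
    let W : Sylow p M := hFM.toSylow hidx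
    haveI : (W : Subgroup M).Normal := inferInstanceAs (fittingSubgroup M).Normal
    have hTW : ∀ t ∈ (T : Subgroup H), (⟨t, hHM t.2⟩ : M) ∈ fittingSubgroup M := by
      intro t ht
      obtain ⟨k, hk⟩ := mem_of_subgroup_pow T.2 ht
      obtain ⟨g, hg⟩ := CfsgLib.FgsB.exists_conj_mem_sylow (x := (⟨t, hHM t.2⟩ : M))
        ⟨k, by rw [Subgroup.orderOf_mk, Subgroup.orderOf_coe, hk]⟩ W
      have := (inferInstance : (fittingSubgroup M).Normal).conj_mem _
        (show _ ∈ fittingSubgroup M from hg) g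
      simpa [mul_assoc] using this
    set V : Subgroup H := (fittingSubgroup M).comap (Subgroup.inclusion hHM) with hV
    have hVn : V.Normal := inferInstance
    have hVp : IsPGroup p V := hFM.comap_of_injective _ (Subgroup.inclusion_injective hHM)
    have hTV : (T : Subgroup H) ≤ V := fun t ht => hTW t ht
    have hVF : V ≤ F := CfsgLib.Base.le_pCore hVp
    exact hxFA (mem_sup_left (hVF (hTV hxT)))
  · obtain ⟨hO', A', -, -, -, -, hn', ht', hidx', -, -⟩ := hts
    obtain rfl : q = p := by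
      by_contra hqp
      obtain ⟨y, hy, hy1⟩ := (bot_or_exists_ne_one _).resolve_left hO'
      haveI := Fact.mk hq
      obtain ⟨j, hj⟩ := mem_of_subgroup_pow (CfsgLib.Base.isPGroup_pCore q M) hy
      obtain ⟨i, hi⟩ := mem_of_subgroup_pow hFM (CfsgLib.Base.pCore_le_fittingSubgroup q M hy)
      refine hy1 (orderOf_eq_one_iff.mp ?_)
      exact Nat.eq_one_of_dvd_coprimes (Nat.coprime_pow_primes j i hq hpp hqp)
        (dvd_of_eq hj) (dvd_of_eq hi)
    haveI := hn'
    exact not_isThreeStep_aux hG hCN S hSM hM hidx' ht'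

/-- For odd order a complement of a normal maximal nilpotent subgroup is cyclic. -/
theorem exists_cyclic_complement (hCN : IsCNGroup G) (hodd : Odd (Nat.card G)) {N : Subgroup G}
    [N.Normal] (h : MaxNil N) (hN : N ≠ ⊥) :
    ∃ E : Subgroup G, IsComplement' N E ∧ IsCyclic E ∧
      (∀ e ∈ E, e ≠ 1 → N ⊓ centralizer ({e} : Set G) = ⊥) ∧
      ∀ x y : G, x * y * x⁻¹ * y⁻¹ ∈ N := by
  obtain ⟨E, hE, hfpf, hEn, hF⟩ := h.exists_complement hCN
  haveI := hEn hN
  haveI : IsZGroup E := ⟨fun r hr R => by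
    haveI := Fact.mk hr
    refine (hF.isCyclic_or_quaternion hN (R : Subgroup E) R.isPGroup').resolve_right ?_
    rintro ⟨rfl, n, -, ⟨e⟩⟩
    have h4 := (card_subgroup_dvd_card (R : Subgroup E)).trans (card_subgroup_dvd_card E)
    rw [Nat.card_congr e.toEquiv] at h4
    haveI : NeZero (2 ^ n) := ⟨pow_ne_zero n two_ne_zero⟩
    rw [Nat.card_eq_fintype_card, QuaternionGroup.card] at h4
    exact (Nat.not_even_iff_odd.mpr hodd) (even_iff_two_dvd.mpr
      ((Dvd.dvd.mul_right (by norm_num : (2 : ℕ) ∣ 4) _).trans h4))⟩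
  haveI : IsCyclic E := inferInstance
  letI := IsCyclic.commGroup (α := E)
  refine ⟨E, hE, inferInstance, hfpf, fun x y => ?_⟩
  obtain ⟨⟨⟨a, ha⟩, ⟨b, hb⟩⟩, hab⟩ := hE.2 x
  obtain ⟨⟨⟨c, hc⟩, ⟨d, hd⟩⟩, hcd⟩ := hE.2 y
  simp only at hab hcd
  rw [← QuotientGroup.eq_one_iff]
  subst hab hcd
  simp only [QuotientGroup.mk_mul, QuotientGroup.mk_inv, (QuotientGroup.eq_one_iff a).mpr ha,
    (QuotientGroup.eq_one_iff c).mpr hc, one_mul]
  rw [mul_inv_eq_one, mul_inv_eq_iff_eq_mul, ← QuotientGroup.mk_mul, ← QuotientGroup.mk_mul,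
    show b * d = d * b from congrArg Subtype.val (mul_comm (⟨b, hb⟩ : E) ⟨d, hd⟩)]

/-- A minimal simple CN-group of odd order has no three-step subgroup. -/
theorem not_isThreeStep (hG : IsMinSimpleOddOrder G) (hCN : IsCNGroup G) (H : Subgroup G) (p : ℕ) :
    ¬ IsThreeStepGroup p H := by
  intro hts
  by_cases hp : p.Prime
  · haveI := Fact.mk hp
    exact not_isThreeStep_prime hG hCN H p hts
  obtain ⟨hO, A, hA1, -, -, hAp, hFAn, hFAt, ⟨n, hn⟩, hfpf, hquot⟩ := hts
  set F := pCore p H with hF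
  haveI := CfsgLib.OddOrder.minSimple_isSimple hG
  have hHt : H ≠ ⊤ := by
    rintro rfl
    haveI : IsSimpleGroup (⊤ : Subgroup G) := (MulEquiv.isSimpleGroup_congr topEquiv).mpr inferInstance
    exact hFAt ((Subgroup.Normal.eq_bot_or_eq_top (H := F) inferInstance).elim
      (fun h => absurd h hO) (fun h => by rw [h, top_sup_eq]))
  haveI := CfsgLib.OddOrder.minSimple_solvable hG hHt
  have hCN' := isCNGroup_subgroup hCN H
  rcases solvable_cases hCN' with hmax | ⟨q, hq, hts'⟩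
  swap
  · haveI := Fact.mk hq
    exact not_isThreeStep_prime hG hCN H q hts'
  set N := fittingSubgroup H with hNdef
  haveI := CfsgLib.Base.fittingSubgroup_normal' H
  haveI : Nontrivial H := by
    obtain ⟨f, -, hf1⟩ := (bot_or_exists_ne_one F).resolve_left hO
    exact ⟨⟨f, 1, hf1⟩⟩
  have hFpow : ∀ f ∈ F, ∃ k, orderOf f ∣ p ^ k := fun f hf => by
    obtain ⟨k, hk⟩ := CfsgLib.Base.isPGroup_pCore p H ⟨f, hf⟩
    exact ⟨k, orderOf_dvd_of_pow_eq_one (congrArg Subtype.val hk)⟩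
  have hNF : N ≤ F := by
    refine le_of_primePow fun r k y hr hy hk => ?_
    haveI := Fact.mk hr
    haveI hNn := CfsgLib.Base.isNilpotent_fittingSubgroup H
    obtain ⟨R⟩ : Nonempty (Sylow r N) := inferInstance
    haveI := Sylow.characteristic_of_normal R (R.normal_of_normalizerCondition Group.normalizerCondition_of_isNilpotent)
    have hyR : y ∈ (R : Subgroup N).map N.subtype := by
      obtain ⟨g, hg⟩ := CfsgLib.FgsB.exists_conj_mem_sylow (x := (⟨y, hy⟩ : N)) ⟨k, by rwa [Subgroup.orderOf_mk]⟩ R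
      haveI := R.normal_of_normalizerCondition Group.normalizerCondition_of_isNilpotent
      refine ⟨⟨y, hy⟩, ?_, rfl⟩
      show (⟨y, hy⟩ : N) ∈ (R : Subgroup N)
      have h2 := (inferInstance : (R : Subgroup N).Normal).conj_mem _ hg g
      simpa [mul_assoc] using (show _ ∈ (R : Subgroup N) from h2)
    by_cases hrp : r ∣ p
    · refine CfsgLib.Base.le_pCore (N := (R : Subgroup N).map N.subtype) (fun z => ?_) hyR
      obtain ⟨j, hj⟩ := (R.2.map N.subtype) z
      refine ⟨j, ?_⟩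
      obtain ⟨c, hc⟩ := pow_dvd_pow_of_dvd hrp j
      rw [hc, pow_mul, hj, one_pow]
    have hcop : ∀ i, (r ^ k).Coprime (p ^ i) := fun i =>
      Nat.Coprime.pow k i ((hr.coprime_iff_not_dvd).mpr hrp)
    have hd : Disjoint ((R : Subgroup N).map N.subtype) F := by
      rw [disjoint_iff, eq_bot_iff_forall]
      rintro z ⟨hz, hzF⟩
      obtain ⟨i, hi⟩ := hFpow z hzF
      obtain ⟨j, hj⟩ := mem_of_subgroup_pow (R.2.map N.subtype) hz
      exact orderOf_eq_one_iff.mp (Nat.eq_one_of_dvd_coprimes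
        (Nat.Coprime.pow j i ((hr.coprime_iff_not_dvd).mpr hrp)) (dvd_of_eq hj) hi)
    have hcom : ∀ f ∈ F, Commute y f := fun f hf =>
      Subgroup.commute_of_normal_of_disjoint _ _ inferInstance inferInstance hd y f hyR hf
    haveI := hFAn
    have hyFA : y ∈ F ⊔ A := by
      rw [← QuotientGroup.eq_one_iff, ← orderOf_eq_one_iff]
      refine Nat.eq_one_of_dvd_coprimes (hcop n) ?_ ?_
      · rw [← hk]; exact orderOf_map_dvd (QuotientGroup.mk' (F ⊔ A)) y
      · rw [← hn, index_eq_card]; exact orderOf_dvd_natCard _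
    obtain ⟨f, hf, a, ha, hfa⟩ := mem_sup_of_normal_left.mp hyFA
    by_cases ha1 : a = 1
    · rw [← hfa, ha1, mul_one]; exact hf
    exfalso
    have hcfa : f * a = a * f := by
      have h1 := (hcom f hf).eq
      rw [← hfa, mul_assoc] at h1
      exact (mul_left_cancel h1).symm
    have hf1 : f = 1 := mem_bot.mp ((hfpf a ha ha1).le ⟨hf, mem_centralizer_singleton_iff.mpr hcfa⟩)
    rw [hf1, one_mul] at hfa
    refine hO (le_bot_iff.mp fun z hz => (hfpf a ha ha1).le ⟨hz, mem_centralizer_singleton_iff.mpr ?_⟩)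
    have := (hcom z hz).eq
    rw [← hfa] at this
    exact this.symm
  obtain ⟨E, -, -, -, hcomm⟩ := exists_cyclic_complement hCN'
    (Odd.of_dvd_nat hG.1 (card_subgroup_dvd_card H)) hmax hmax.ne_bot
  obtain ⟨a, ha, ha1⟩ := (bot_or_exists_ne_one A).resolve_left hA1
  obtain ⟨x, hx⟩ := SetLike.exists_not_mem_of_ne_top (F ⊔ A) hFAt rfl
  exact hquot x hx a ha ha1 (hNF (hcomm x a))

/-- Every maximal subgroup is the normalizer of a maximal nilpotent subgroup with cyclic complement. -/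
theorem exists_kernel (hG : IsMinSimpleOddOrder G) (hCN : IsCNGroup G) {L : Subgroup G}
    (hL : IsCoatom L) :
    ∃ K E : Subgroup G, MaxNil K ∧ K ≠ ⊥ ∧ K ≤ L ∧ normalizer (K : Set G) = L ∧
      IsComplIn K E L ∧ (∀ e ∈ E, e ≠ 1 → K ⊓ centralizer ({e} : Set G) = ⊥) ∧
      (∀ x ∈ L, ∀ y ∈ L, x * y * x⁻¹ * y⁻¹ ∈ K) ∧
      fittingHallOf L = K := by
  haveI := CfsgLib.OddOrder.minSimple_solvable hG hL.1
  have hCN' := isCNGroup_subgroup hCN L
  rcases solvable_cases hCN' with hmax | ⟨q, -, hts⟩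
  swap
  · exact absurd hts (not_isThreeStep hG hCN L q)
  haveI := CfsgLib.OddOrder.minSimple_isSimple hG
  have hLne : L ≠ ⊥ := fun h => by
    subst h
    obtain ⟨x, hx⟩ := exists_ne (1 : G)
    rcases hL.le_iff.mp (bot_le : (⊥ : Subgroup G) ≤ zpowers x) with h | h
    · have hA : Group.IsSolvable (zpowers x) := by
        letI := IsCyclic.commGroup (α := zpowers x); infer_instance
      exact CfsgLib.OddOrder.minSimple_ne_top_of_isSolvable hG hA h
    · rw [zpowers_eq_bot] at h; exact hx h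
  haveI : Nontrivial L := (nontrivial_iff_ne_bot L).mpr hLne
  haveI := CfsgLib.Base.fittingSubgroup_normal' L
  set N := fittingSubgroup L with hN
  set K := N.map L.subtype with hK
  have hKL : K ≤ L := map_subtype_le _
  have hKne : K ≠ ⊥ := by
    rw [hK, Ne, map_eq_bot_iff_of_injective _ L.subtype_injective]; exact hmax.ne_bot
  have hKnil : Group.IsNilpotent K := CfsgLib.Base.isNilpotent_map _ hmax.1
  have hKt : K ≠ ⊤ := fun h => hL.1 (top_le_iff.mp (h ▸ hKL))
  have hLN : L ≤ normalizer (K : Set G) :=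
    le_normalizer.trans (CfsgLib.Base.normalizer_le_normalizer_map_subtype L N)
  have hNK : normalizer (K : Set G) = L :=
    (hL.le_iff.mp hLN).resolve_left (CfsgLib.OddOrder.minSimple_normalizer_ne_top hG hKne hKt)
  have hKmax : MaxNil K := by
    refine ⟨hKnil, fun W hW hKW => ?_⟩
    by_contra hne
    haveI := hW
    have hlt : K.subgroupOf W < ⊤ := lt_top_iff_ne_top.mpr fun h =>
      hne (le_antisymm (subgroupOf_eq_top.mp h) hKW)
    have hlt2 := Group.normalizerCondition_of_isNilpotent (G := W) _ hlt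
    obtain ⟨y, hy, hyK⟩ := SetLike.exists_of_lt hlt2
    have hyL : (y : G) ∈ L := by
      rw [← hNK, mem_normalizer_iff]
      intro z
      by_cases hz : z ∈ W
      · exact mem_normalizer_iff.mp hy ⟨z, hz⟩
      · refine ⟨fun h => absurd (hKW h) hz, fun h => absurd ?_ hz⟩
        have := W.mul_mem (W.mul_mem (W.inv_mem y.2) (hKW h)) y.2
        simpa [mul_assoc] using this
    have hin : (⟨(y : G), hyL⟩ : L) ∈ N := by
      have h1 := hmax.2 (W.subgroupOf L) ?_ ?_
      · rw [← h1]; exact y.2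
      · exact (Group.isNilpotent_congr (equivMapOfInjective _ _ L.subtype_injective)).mpr
          (isNilpotent_of_le (H := (W.subgroupOf L).map L.subtype) (K := W)
            (by rintro _ ⟨z, hz, rfl⟩; exact hz))
      · intro z hz; exact hKW ⟨z, hz, rfl⟩
    exact hyK (show (y : G) ∈ K from ⟨_, hin, rfl⟩)
  obtain ⟨E, hE, -, hfpf, hcomm⟩ := exists_cyclic_complement hCN'
    (Odd.of_dvd_nat hG.1 (card_subgroup_dvd_card L)) hmax hmax.ne_bot
  refine ⟨K, E.map L.subtype, hKmax, hKne, hKL, hNK, ⟨hKL, map_subtype_le _, ?_, ?_⟩, ?_, ?_, ?_⟩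
  · rw [← map_inf _ _ _ L.subtype_injective, hE.disjoint.eq_bot, Subgroup.map_bot]
  · intro m hm
    obtain ⟨⟨⟨a, ha⟩, ⟨b, hb⟩⟩, hab⟩ := hE.2 ⟨m, hm⟩
    exact ⟨a, ⟨a, ha, rfl⟩, b, ⟨b, hb, rfl⟩, (congrArg Subtype.val hab).symm⟩
  · rintro _ ⟨e, he, rfl⟩ he1
    rw [eq_bot_iff_forall]
    rintro _ ⟨⟨z, hz, rfl⟩, hzc⟩
    have hmem : z ∈ N ⊓ centralizer ({e} : Set L) := ⟨hz, mem_centralizer_singleton_iff.mpr
      (Subtype.ext (mem_centralizer_singleton_iff.mp hzc))⟩
    rw [hfpf e he (fun h => he1 (by simp [h])), mem_bot] at hmem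
    rw [hmem]; rfl
  · exact fun x hx y hy => ⟨_, hcomm ⟨x, hx⟩ ⟨y, hy⟩, rfl⟩
  · rw [fittingHallOf, hmax.fittingHall_eq hCN']

theorem false_of_self_normalizing (hG : IsMinSimpleOddOrder G) {H : Subgroup G} (hH1 : H ≠ ⊥)
    (hHt : H ≠ ⊤)
    (hTI : ∀ g : G, H.map (MulAut.conj g).toMonoidHom ≠ H → H ⊓ H.map (MulAut.conj g).toMonoidHom = ⊥)
    (hN : normalizer (H : Set G) ≤ H) : False := by
  haveI := CfsgLib.OddOrder.minSimple_isSimple hG
  have key : ∀ g : G, g ∉ H → ∀ h ∈ H, g * h * g⁻¹ ∈ H → h = 1 := by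
    intro g hg h hh hgh
    have hne : H.map (MulAut.conj g).toMonoidHom ≠ H := fun e =>
      hg (hN (mem_normalizer_iff_map_conj_eq.mpr e))
    have hmem : g * h * g⁻¹ ∈ H ⊓ H.map (MulAut.conj g).toMonoidHom := ⟨hgh, h, hh, rfl⟩
    rw [hTI g hne, mem_bot, conj_eq_one_iff] at hmem
    exact hmem
  obtain ⟨N, hNn, hc, -⟩ := CfsgLib.CharsMore.exists_frobenius_kernel H key
  haveI := hNn
  rcases Subgroup.Normal.eq_bot_or_eq_top (H := N) inferInstance with h | h
  · rw [h] at hc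
    exact hHt (isComplement'_bot_left.mp hc)
  · rw [h] at hc
    exact hH1 (isComplement'_top_left.mp hc)

theorem MaxNil.ti_minSimple (hG : IsMinSimpleOddOrder G) (hCN : IsCNGroup G) {H : Subgroup G}
    (h : MaxNil H) (g : G) (hne : H.map (MulAut.conj g).toMonoidHom ≠ H) :
    H ⊓ H.map (MulAut.conj g).toMonoidHom = ⊥ := by
  haveI := CfsgLib.OddOrder.minSimple_isSimple hG
  by_cases hpp : IsPrimePow (Nat.card H)
  swap
  · exact h.ti hCN hpp hne
  obtain ⟨p, m, hp, hm, hpm⟩ := (isPrimePow_nat_iff _).mp hpp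
  haveI := Fact.mk hp
  obtain ⟨S, hS⟩ := exists_sylow_le hCN h (hpm ▸ dvd_pow_self p hm.ne')
  have hHp : IsPGroup p H := IsPGroup.of_card hpm.symm
  have hHS : (S : Subgroup G) = H := (S.3 hHp hS).symm
  -- two Sylow subgroups meet trivially
  suffices key : ∀ A B : Sylow p G, A ≠ B → (A : Subgroup G) ⊓ (B : Subgroup G) = ⊥ by
    by_contra hbad
    have hB : ((g • S : Sylow p G) : Subgroup G) = H.map (MulAut.conj g).toMonoidHom := by
      rw [Sylow.coe_subgroup_smul, hHS, CfsgLib.Base.map_conj_eq_smul]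
    have := key S (g • S) (fun e => hne (by rw [← hB, ← e, hHS]))
    rw [hB, hHS] at this
    exact hbad this
  intro A B hAB
  by_contra hD1
  obtain ⟨⟨A, B⟩, ⟨hAB, hD1⟩, hmax⟩ := Set.exists_max_image
    {q : Sylow p G × Sylow p G | q.1 ≠ q.2 ∧ (q.1 : Subgroup G) ⊓ (q.2 : Subgroup G) ≠ ⊥}
    (fun q => Nat.card ↥((q.1 : Subgroup G) ⊓ (q.2 : Subgroup G))) (Set.toFinite _) ⟨(A, B), hAB, hD1⟩
  simp only at hAB hD1 hmax
  set D := (A : Subgroup G) ⊓ (B : Subgroup G) with hD
  have hext : ∀ X U : Sylow p G, D ≤ (X : Subgroup G) → ∀ R : Subgroup G, D < R →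
      R ≤ (X : Subgroup G) → R ≤ (U : Subgroup G) → U = X := by
    intro X U hDX R hDR hRX hRU
    by_contra hne
    have hRne : (U : Subgroup G) ⊓ (X : Subgroup G) ≠ ⊥ := fun e =>
      hD1 (le_bot_iff.mp (hDR.le.trans (e ▸ le_inf hRU hRX)))
    have := hmax (U, X) ⟨hne, hRne⟩
    simp only at this
    have h2 := CfsgLib.Transfer.card_lt_card_of_lt (lt_of_lt_of_le hDR (le_inf hRU hRX))
    omega
  have hDA : D < (A : Subgroup G) := lt_of_le_of_ne inf_le_left fun e =>
    hAB (Sylow.ext ((A.3 B.2 (e ▸ inf_le_right)).symm))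
  have hDB : D < (B : Subgroup G) := lt_of_le_of_ne inf_le_right fun e =>
    hAB (Sylow.ext (B.3 A.2 (e ▸ inf_le_left)))
  have hDp : IsPGroup p D := A.2.to_le inf_le_left
  obtain ⟨L, hL, hNL⟩ := (eq_top_or_exists_le_coatom (normalizer (D : Set G))).resolve_left
    (CfsgLib.OddOrder.minSimple_normalizer_ne_top hG hD1
      (CfsgLib.OddOrder.minSimple_ne_top_of_isSolvable hG (by haveI := hDp.isNilpotent; infer_instance)))
  obtain ⟨K, E, hK, hK1, hKL, hNK, -, -, hcomm, -⟩ := exists_kernel hG hCN hL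
  have hR : ∀ X : Sylow p G, D < (X : Subgroup G) →
      D < (X : Subgroup G) ⊓ normalizer (D : Set G) := fun X hX =>
    CfsgLib.Transfer.lt_inf_normalizer X.2 hX
  set RA := (A : Subgroup G) ⊓ normalizer (D : Set G)
  set RB := (B : Subgroup G) ⊓ normalizer (D : Set G)
  by_cases hpK : p ∣ Nat.card K
  · obtain ⟨U, hU⟩ := exists_sylow_le hCN hK hpK
    have hin : ∀ R : Subgroup G, IsPGroup p R → R ≤ L → R ≤ (U : Subgroup G) := by
      intro R hRp hRL y hy
      obtain ⟨k, hk⟩ := mem_of_subgroup_pow hRp hy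
      refine sylow_eq_of_le hK.1 U hU ?_ ⟨k, hk⟩
      have hyN : y ∈ normalizer (K : Set G) := hNK ▸ hRL hy
      haveI : (K.subgroupOf (normalizer (K : Set G))).Normal := normal_subgroupOf_of_le_normalizer le_rfl
      have h1 : orderOf (QuotientGroup.mk' (K.subgroupOf (normalizer (K : Set G))) ⟨y, hyN⟩) = 1 := by
        refine Nat.eq_one_of_dvd_coprimes (((hp.coprime_iff_not_dvd).mpr fun hd =>
          not_dvd_index_of_dvd hCN hK hp hpK (hd.trans (relIndex_dvd_index_of_le le_normalizer))).pow_left k)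
          ?_ ?_
        · refine (orderOf_map_dvd _ _).trans ?_
          rw [Subgroup.orderOf_mk, hk]
        · show _ ∣ (K.subgroupOf (normalizer (K : Set G))).index
          rw [index_eq_card]; exact orderOf_dvd_natCard _
      rw [orderOf_eq_one_iff, QuotientGroup.mk'_apply, QuotientGroup.eq_one_iff] at h1
      exact h1
    have h1 := hext A U inf_le_left RA (hR A hDA) inf_le_left
      (hin _ (A.2.to_le inf_le_left) (inf_le_right.trans hNL))
    have h2 := hext B U inf_le_right RB (hR B hDB) inf_le_left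
      (hin _ (B.2.to_le inf_le_left) (inf_le_right.trans hNL))
    exact hAB (h1.symm.trans h2)
  -- the `p`-subgroups of `L` are abelian
  have habel : ∀ R : Subgroup G, IsPGroup p R → R ≤ L → ∀ x ∈ R, ∀ y ∈ R, Commute x y := by
    intro R hRp hRL x hx y hy
    have hm := hcomm x (hRL hx) y (hRL hy)
    obtain ⟨k, hk⟩ := mem_of_subgroup_pow hRp (R.mul_mem (R.mul_mem (R.mul_mem hx hy) (R.inv_mem hx)) (R.inv_mem hy))
    have : x * y * x⁻¹ * y⁻¹ = 1 := orderOf_eq_one_iff.mp (Nat.eq_one_of_dvd_coprimes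
      ((hp.coprime_iff_not_dvd.mpr hpK).pow_left k) (dvd_of_eq hk) (orderOf_dvd_natCard _ hm))
    rwa [mul_inv_eq_one, mul_inv_eq_iff_eq_mul] at this
  obtain ⟨z, hz, hz1⟩ := (bot_or_exists_ne_one D).resolve_left hD1
  have hRC : ∀ X : Sylow p G, D < (X : Subgroup G) →
      (X : Subgroup G) ⊓ normalizer (D : Set G) ≤ centralizer ({z} : Set G) := fun X hX y hy =>
    mem_centralizer_singleton_iff.mpr
      (habel _ (X.2.to_le inf_le_left) (inf_le_right.trans hNL) y hy z ((hR X hX).le hz)).eq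
  haveI hC := hCN z hz1
  obtain ⟨T⟩ : Nonempty (Sylow p (centralizer ({z} : Set G))) := inferInstance
  obtain ⟨U, hU⟩ := (T.2.map (centralizer ({z} : Set G)).subtype).exists_le_sylow
  have hin : ∀ R : Subgroup G, IsPGroup p R → R ≤ centralizer ({z} : Set G) → R ≤ (U : Subgroup G) := by
    intro R hRp hRC y hy
    obtain ⟨k, hk⟩ := mem_of_subgroup_pow hRp hy
    haveI := T.normal_of_normalizerCondition Group.normalizerCondition_of_isNilpotent
    obtain ⟨c, hc⟩ := CfsgLib.FgsB.exists_conj_mem_sylow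
      (x := (⟨y, hRC hy⟩ : centralizer ({z} : Set G))) ⟨k, by rwa [Subgroup.orderOf_mk]⟩ T
    have h2 := (inferInstance : (T : Subgroup (centralizer ({z} : Set G))).Normal).conj_mem _ hc c
    refine hU ⟨⟨y, hRC hy⟩, ?_, rfl⟩
    show (⟨y, hRC hy⟩ : centralizer ({z} : Set G)) ∈ (T : Subgroup _)
    simpa [mul_assoc] using (show _ ∈ (T : Subgroup (centralizer ({z} : Set G))) from h2)
  have h1 := hext A U inf_le_left RA (hR A hDA) inf_le_left
    (hin _ (A.2.to_le inf_le_left) (hRC A hDA))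
  have h2 := hext B U inf_le_right RB (hR B hDB) inf_le_left
    (hin _ (B.2.to_le inf_le_left) (hRC B hDB))
  exact hAB (h1.symm.trans h2)

theorem MaxNil.centralizer_le_minSimple (hG : IsMinSimpleOddOrder G) (hCN : IsCNGroup G)
    {H : Subgroup G} (h : MaxNil H) {x : G} (hx : x ∈ H) (hx1 : x ≠ 1) :
    centralizer ({x} : Set G) ≤ H :=
  h.centralizer_le hCN (h.ti_minSimple hG hCN) hx hx1

theorem MaxNil.eq_of_mem (hG : IsMinSimpleOddOrder G) (hCN : IsCNGroup G) {H K : Subgroup G}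
    (hH : MaxNil H) (hK : MaxNil K) {x : G} (hxH : x ∈ H) (hxK : x ∈ K) (hx1 : x ≠ 1) : H = K := by
  have hne : H ≠ ⊥ := fun e => hx1 (mem_bot.mp (e ▸ hxH))
  obtain ⟨z, hzH, hz1, hzc⟩ := exists_central hH.1 hne
  have hzK : z ∈ K := hK.centralizer_le_minSimple hG hCN hxK hx1
    (mem_centralizer_singleton_iff.mpr (hzc x hxH).eq)
  refine (hH.2 K hK.1 fun y hy => ?_).symm
  exact hK.centralizer_le_minSimple hG hCN hzK hz1 (mem_centralizer_singleton_iff.mpr (hzc y hy).eq.symm)

/-- The normalizer of a maximal nilpotent subgroup is a maximal subgroup. -/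
theorem MaxNil.normalizer_isCoatom (hG : IsMinSimpleOddOrder G) (hCN : IsCNGroup G) {H : Subgroup G}
    (h : MaxNil H) :
    IsCoatom (normalizer (H : Set G)) ∧ ∃ E : Subgroup G, IsComplIn H E (normalizer (H : Set G)) ∧
      E ≠ ⊥ ∧ ∀ e ∈ E, e ≠ 1 → H ⊓ centralizer ({e} : Set G) = ⊥ := by
  haveI := CfsgLib.OddOrder.minSimple_isSimple hG
  have hH1 : H ≠ ⊥ := h.ne_bot
  have hHt : H ≠ ⊤ := CfsgLib.OddOrder.minSimple_ne_top_of_isSolvable hG (by haveI := h.1; infer_instance)
  obtain ⟨L, hL, hNL⟩ := (eq_top_or_exists_le_coatom (normalizer (H : Set G))).resolve_left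
    (CfsgLib.OddOrder.minSimple_normalizer_ne_top hG hH1 hHt)
  obtain ⟨K, E, hK, hK1, hKL, hNK, hc, hfpf, hcomm, -⟩ := exists_kernel hG hCN hL
  by_cases hmeet : H ⊓ K = ⊥
  · refine (false_of_self_normalizing hG hH1 hHt (h.ti_minSimple hG hCN) fun n hn => ?_).elim
    obtain ⟨y, hy, hy1⟩ := (bot_or_exists_ne_one H).resolve_left hH1
    have hmem : n * y * n⁻¹ * y⁻¹ ∈ H ⊓ K :=
      ⟨H.mul_mem ((mem_normalizer_iff.mp hn y).mp hy) (H.inv_mem hy),
        hcomm n (hNL hn) y (hNL (le_normalizer hy))⟩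
    rw [hmeet, mem_bot, mul_inv_eq_one, mul_inv_eq_iff_eq_mul] at hmem
    exact h.centralizer_le_minSimple hG hCN hy hy1 (mem_centralizer_singleton_iff.mpr hmem)
  obtain ⟨x, hx, hx1⟩ := (bot_or_exists_ne_one _).resolve_left hmeet
  obtain rfl := h.eq_of_mem hG hCN hK hx.1 hx.2 hx1
  rw [hNK]
  refine ⟨hL, E, hc, fun hE => ?_, hfpf⟩
  refine false_of_self_normalizing hG hH1 hHt (h.ti_minSimple hG hCN) fun n hn => ?_
  obtain ⟨a, ha, b, hb, rfl⟩ := hc.2.2.2 n (hNL hn)
  rw [hE, mem_bot] at hb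
  rwa [hb, mul_one]

theorem MaxNil.conj_or_coprime (hG : IsMinSimpleOddOrder G) (hCN : IsCNGroup G) {H K : Subgroup G}
    (hH : MaxNil H) (hK : MaxNil K) :
    (∃ g : G, K = H.map (MulAut.conj g).toMonoidHom) ∨ (Nat.card H).Coprime (Nat.card K) := by
  refine or_iff_not_imp_right.mpr fun hc => ?_
  obtain ⟨p, hp, hd1, hd2⟩ := Nat.Prime.not_coprime_iff_dvd.mp hc
  haveI := Fact.mk hp
  obtain ⟨S, hS⟩ := exists_sylow_le hCN hH hd1
  obtain ⟨T, hT⟩ := exists_sylow_le hCN hK hd2
  obtain ⟨g, hg⟩ := MulAction.exists_smul_eq G S T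
  obtain ⟨x, hx, hx1⟩ := (bot_or_exists_ne_one (T : Subgroup G)).resolve_left
    (T.ne_bot_of_dvd_card (hd2.trans (card_subgroup_dvd_card K)))
  refine ⟨g, hK.eq_of_mem hG hCN (hH.map _) (hT hx) ?_ hx1⟩
  rw [← hg, Sylow.coe_subgroup_smul, ← CfsgLib.Base.map_conj_eq_smul] at hx
  exact map_mono hS hx

end CfsgLib.CNGroups
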