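import Cfsg.Agent.Lib.CNGroups.MinSimple
import Cfsg.Agent.Lib.CNGroups.FrobeniusCover

/-!
# CN-groups of odd order are solvable
-/

set_option autoImplicit false
set_option linter.style.haveILetI false

namespace CfsgLib.CNGroups

open Subgroup Cfsg

universe u

variable {G : Type u} [Group G] [Finite G]

theorem false_of_minSimple (hG : IsMinSimpleOddOrder G) (hCN : IsCNGroup G) : False := by
  classical
  haveI := CfsgLib.OddOrder.minSimple_isSimple hG
  letI := Fintype.ofFinite G
  let T := {H : Subgroup G // MaxNil H}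
  letI st : Setoid T :=
    { r := fun a b => ∃ g : G, b.1 = a.1.map (MulAut.conj g).toMonoidHom
      iseqv :=
        { refl := fun a => ⟨1, by
            ext x; simp [Subgroup.mem_map]⟩
          symm := by
            rintro a b ⟨g, hg⟩
            refine ⟨g⁻¹, ?_⟩
            rw [hg]
            ext x
            simp [Subgroup.mem_map, mul_assoc]
          trans := by
            rintro a b c ⟨g, hg⟩ ⟨k, hk⟩
            refine ⟨k * g, ?_⟩
            rw [hk, hg, map_map]
            congr 1
            ext x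
            simp [mul_assoc] } }
  haveI : Finite T := inferInstance
  let ι := Quotient st
  haveI : Fintype ι := Fintype.ofFinite ι
  let F : ι → Subgroup G := fun i => i.out.1
  have hF : ∀ i, MaxNil (F i) := fun i => i.out.2
  have hcover : ∀ g : G, g ≠ 1 → ∃ i, ∃ x : G, x * g * x⁻¹ ∈ F i := by
    intro g hg
    obtain ⟨H, hH1, hH⟩ := exists_maxNil_le _ (hCN g hg)
    have hgH : g ∈ H := hH1 (mem_centralizer_singleton_iff.mpr rfl)
    obtain ⟨x, hx⟩ : (Quotient.mk st ⟨H, hH⟩).out ≈ (⟨H, hH⟩ : T) := Quotient.mk_out _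
    rw [show H = _ from hx] at hgH
    obtain ⟨y, hy, hyg⟩ := hgH
    exact ⟨_, x⁻¹, by rw [← hyg]; simpa [mul_assoc] using hy⟩
  have hne_top : ∀ i, F i ≠ ⊤ := fun i => CfsgLib.OddOrder.minSimple_ne_top_of_isSolvable hG
    (by haveI := (hF i).1; infer_instance)
  refine no_frobenius_cover (F := F) hG.1 ?_ (fun i => (hF i).ne_bot) ?_ ?_ ?_ ?_ hcover
  · by_contra hlt
    have hle : Fintype.card ι ≤ 1 := by omega
    haveI : Subsingleton ι := Fintype.card_le_one_iff_subsingleton.mp hle
    obtain ⟨y, hy⟩ := exists_ne (1 : G)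
    obtain ⟨i, -, -⟩ := hcover y hy
    refine hne_top i (index_eq_one.mp ?_)
    by_contra h1
    obtain ⟨p, hp, hd⟩ := Nat.exists_prime_and_dvd h1
    haveI := Fact.mk hp
    obtain ⟨z, hz⟩ := exists_prime_orderOf_dvd_card' (G := G) p (hd.trans (index_dvd_card _))
    obtain ⟨j, x, hx⟩ := hcover z (fun e => by rw [e, orderOf_one] at hz; exact hp.ne_one hz.symm)
    rw [Subsingleton.elim j i] at hx
    refine not_dvd_index_of_dvd hCN (hF i) hp ?_ hd
    refine dvd_trans ?_ (orderOf_dvd_natCard _ hx)
    rw [← MulAut.conj_apply, MulEquiv.orderOf_eq, hz]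
  · intro i g hg x hx hgx
    by_contra hx1
    refine hg (mem_normalizer_iff_map_conj_eq.mpr ?_)
    by_contra hne
    have hmem : g * x * g⁻¹ ∈ F i ⊓ (F i).map (MulAut.conj g).toMonoidHom := ⟨hgx, x, hx, rfl⟩
    rw [(hF i).ti_minSimple hG hCN g hne, mem_bot, conj_eq_one_iff] at hmem
    exact hx1 hmem
  · intro i
    refine lt_of_le_not_ge le_normalizer fun hle => ?_
    exact false_of_self_normalizing hG (hF i).ne_bot (hne_top i) ((hF i).ti_minSimple hG hCN) hle
  · exact fun i h hh hh1 => inf_le_right.trans ((hF i).centralizer_le_minSimple hG hCN hh hh1)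
  · intro i j hij
    refine ((hF i).conj_or_coprime hG hCN (hF j)).resolve_left ?_
    rintro ⟨g, hg⟩
    exact hij (Quotient.out_equiv_out.mp ⟨g, hg⟩)

theorem isSolvable_of_odd_aux (n : ℕ) : ∀ (G : Type u) [Group G] [Finite G],
    Nat.card G ≤ n → Odd (Nat.card G) → IsCNGroup G → Group.IsSolvable G := by
  induction n with
  | zero =>
    intro G _ _ h _ _
    exact absurd (Nat.le_zero.mp h) Nat.card_pos.ne'
  | succ n ih =>
    intro G _ _ hcard hodd hCN
    rcases subsingleton_or_nontrivial G with hs | hn
    · infer_instance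
    have hsub : ∀ H : Subgroup G, H ≠ ⊤ → Group.IsSolvable H := fun H hH => by
      refine ih H ?_ (hodd.of_dvd_nat (card_subgroup_dvd_card H)) (isCNGroup_subgroup hCN H)
      have := CfsgLib.Transfer.card_lt_card_of_lt (lt_top_iff_ne_top.mpr hH)
      rw [Subgroup.card_top] at this
      omega
    by_cases hex : ∃ N : Subgroup G, N.Normal ∧ N ≠ ⊥ ∧ N ≠ ⊤
    · obtain ⟨N, hN, hNb, hNt⟩ := hex
      have hNs := hsub N hNt
      have hq : Group.IsSolvable (G ⧸ N) := by
        refine ih _ ?_ ?_ (isCNGroup_quotient _ hCN N hNs le_rfl)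
        · have h1 := N.index_mul_card
          have h2 : 2 ≤ Nat.card N := by
            have h3 := Nat.card_pos (α := N)
            have h4 : Nat.card N ≠ 1 := fun e => hNb (N.eq_bot_of_card_eq e)
            omega
          have h3 : 2 * N.index ≤ Nat.card G := by
            rw [← h1, mul_comm N.index]; exact Nat.mul_le_mul_right _ h2
          have h4 : 0 < N.index := Nat.pos_of_ne_zero Subgroup.index_ne_zero_of_finite
          rw [← Subgroup.index_eq_card]
          omega
        · rw [← Subgroup.index_eq_card]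
          exact hodd.of_dvd_nat (index_dvd_card N)
      haveI := hNs
      haveI := hq
      exact Group.isSolvable_of_ker_le_range N.subtype (QuotientGroup.mk' N)
        (by rw [QuotientGroup.ker_mk', range_subtype])
    push Not at hex
    haveI : IsSimpleGroup G := ⟨fun H hH => or_iff_not_imp_left.mpr fun h => hex H hH h⟩
    by_contra hns
    refine false_of_minSimple ⟨hodd, inferInstance, fun hc => hns ?_, hsub⟩ hCN
    exact Group.isSolvable_of_comm fun a b => hc.is_comm.comm a b

theorem isSolvable_of_odd (hodd : Odd (Nat.card G)) (hCN : IsCNGroup G) : Group.IsSolvable G :=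
  isSolvable_of_odd_aux (Nat.card G) G le_rfl hodd hCN

end CfsgLib.CNGroups
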