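import Cfsg.Agent.Lib.CNGroups.Basic
import Cfsg.Agent.Lib.FgsB.DirectFactor
import Cfsg.Agent.Lib.Base.FPF
import Cfsg.Agent.Lib.Base.Frobenius
import Cfsg.Agent.Lib.Coprime.Hall
import Cfsg.Agent.Lib.PGroups.Basic
import Cfsg.Agent.Lib.Transfer.NormalPComplement

/-!
# Structure of CN-groups
Maximal nilpotent subgroups and the solvable CN-groups.
-/

set_option autoImplicit false
set_option linter.style.haveILetI false
set_option linter.unusedSectionVars false

namespace CfsgLib.CNGroups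

open Subgroup Cfsg
open scoped Pointwise

universe u

variable {G : Type u} [Group G]

theorem isCNGroup_subgroup (h : IsCNGroup G) (H : Subgroup G) : IsCNGroup H := by
  intro x hx
  have hne : (x : G) ≠ 1 := fun e => hx (Subtype.ext e)
  haveI := h _ hne
  haveI := isNilpotent_of_le (H := (centralizer ({x} : Set H)).map H.subtype)
    (K := centralizer ({(x : G)} : Set G)) (by
      rintro _ ⟨y, hy, rfl⟩
      rw [mem_centralizer_singleton_iff]
      exact congrArg Subtype.val (mem_centralizer_singleton_iff.mp hy))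
  exact (Group.isNilpotent_congr (equivMapOfInjective _ _ H.subtype_injective)).mpr inferInstance

/-- Maximal nilpotent subgroups. -/
def MaxNil (H : Subgroup G) : Prop :=
  Group.IsNilpotent H ∧ ∀ L : Subgroup G, Group.IsNilpotent L → H ≤ L → L = H

variable [Finite G]

theorem exists_maxNil_le (H : Subgroup G) (hH : Group.IsNilpotent H) :
    ∃ M, H ≤ M ∧ MaxNil M := by
  obtain ⟨M, ⟨hM, hle⟩, hmax⟩ := Set.exists_max_image
    {L : Subgroup G | Group.IsNilpotent L ∧ H ≤ L} (fun L => Nat.card L) (Set.toFinite _)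
    ⟨H, hH, le_rfl⟩
  exact ⟨M, hle, hM, fun L hL hML =>
    (Subgroup.eq_of_le_of_card_ge hML (hmax L ⟨hL, hle.trans hML⟩)).symm⟩

theorem MaxNil.map (e : G ≃* G) {H : Subgroup G} (h : MaxNil H) : MaxNil (H.map e.toMonoidHom) := by
  refine ⟨haveI := h.1; (Group.isNilpotent_congr (equivMapOfInjective _ _ e.injective)).mp h.1,
    fun L hL hle => ?_⟩
  have h1 : Group.IsNilpotent (L.map e.symm.toMonoidHom) :=
    (Group.isNilpotent_congr (equivMapOfInjective _ _ e.symm.injective)).mp hL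
  have h2 : H ≤ L.map e.symm.toMonoidHom := fun x hx =>
    ⟨e x, hle ⟨x, hx, rfl⟩, e.symm_apply_apply x⟩
  rw [← h.2 _ h1 h2, map_map]
  ext x
  constructor
  · exact fun hx => ⟨x, hx, e.apply_symm_apply x⟩
  · rintro ⟨y, hy, rfl⟩
    show e (e.symm y) ∈ L
    rwa [e.apply_symm_apply]

theorem MaxNil.ne_bot [Nontrivial G] {H : Subgroup G} (h : MaxNil H) : H ≠ ⊥ := by
  intro hb
  obtain ⟨x, hx⟩ := exists_ne (1 : G)
  have := h.2 (zpowers x) (letI := IsCyclic.commGroup (α := zpowers x); inferInstance) (hb ▸ bot_le)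
  rw [hb, zpowers_eq_bot] at this
  exact hx this

/-- An element of a nilpotent subgroup commuting with every element of prime power order is central. -/
theorem commute_of_primePow {H : Subgroup G} {x : G} (hx : x ∈ H)
    (h : ∀ (r k : ℕ) (y : G), r.Prime → y ∈ H → orderOf y = r ^ k → Commute x y) :
    ∀ y ∈ H, Commute x y := by
  intro y hy
  have : centralizer ({(⟨x, hx⟩ : H)} : Set H) = ⊤ := by
    refine CfsgLib.FgsB.eq_top_of_forall_primePow_mem fun z ⟨r, k, hr, hk⟩ => ?_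
    rw [mem_centralizer_singleton_iff]
    exact Subtype.ext (h r k z hr z.2 (by rw [Subgroup.orderOf_coe, hk])).eq.symm
  have hy' : (⟨y, hy⟩ : H) ∈ centralizer ({(⟨x, hx⟩ : H)} : Set H) := this ▸ mem_top _
  exact (congrArg Subtype.val (mem_centralizer_singleton_iff.mp hy')).symm

theorem le_of_primePow {H K : Subgroup G}
    (h : ∀ (r k : ℕ) (y : G), r.Prime → y ∈ K → orderOf y = r ^ k → y ∈ H) : K ≤ H := by
  rw [← subgroupOf_eq_top]
  exact CfsgLib.FgsB.eq_top_of_forall_primePow_mem fun z ⟨r, k, hr, hk⟩ =>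
    h r k z hr z.2 (by rw [Subgroup.orderOf_coe, hk])

/-- The centraliser of a nontrivial central element of a maximal nilpotent subgroup. -/
theorem MaxNil.centralizer_eq (hCN : IsCNGroup G) {H : Subgroup G} (h : MaxNil H) {x : G}
    (hx1 : x ≠ 1) (hc : ∀ y ∈ H, Commute x y) : centralizer ({x} : Set G) = H :=
  h.2 _ (hCN x hx1) fun y hy => by
    rw [mem_centralizer_singleton_iff]
    exact (hc y hy).eq.symm

theorem exists_central {H : Subgroup G} (hH : Group.IsNilpotent H) (hne : H ≠ ⊥) :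
    ∃ z ∈ H, z ≠ 1 ∧ ∀ y ∈ H, Commute z y := by
  haveI := hH
  haveI : Nontrivial H := (nontrivial_iff_ne_bot H).mpr hne
  obtain ⟨z, hz, hz1⟩ := (bot_or_exists_ne_one _).resolve_left (Group.IsNilpotent.center_ne_bot (G := H))
  exact ⟨z, z.2, fun e => hz1 (Subtype.ext e),
    fun y hy => (congrArg Subtype.val (mem_center_iff.mp hz ⟨y, hy⟩)).symm⟩

/-- A central element of prime power order in a given prime. -/
theorem exists_central_primePow {H : Subgroup G} (hH : Group.IsNilpotent H) {p : ℕ}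
    [hp : Fact p.Prime] (hd : p ∣ Nat.card H) :
    ∃ z ∈ H, z ≠ 1 ∧ orderOf z = p ∧ ∀ y ∈ H, Commute z y := by
  obtain ⟨P⟩ : Nonempty (Sylow p H) := inferInstance
  haveI : Nontrivial (P : Subgroup H) := (nontrivial_iff_ne_bot _).mpr (P.ne_bot_of_dvd_card hd)
  haveI := P.2.center_nontrivial
  have hdc : p ∣ Nat.card (center (P : Subgroup H)) := by
    obtain ⟨n, hn0, hn⟩ := (P.2.to_subgroup (center (P : Subgroup H))).nontrivial_iff_card.mp inferInstance
    rw [hn]; exact dvd_pow_self p (by omega)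
  obtain ⟨c, hc⟩ := exists_prime_orderOf_dvd_card' (G := center (P : Subgroup H)) p hdc
  set z : G := (((c : (P : Subgroup H)) : H) : G) with hz
  have hzo : orderOf z = p := by rw [hz, Subgroup.orderOf_coe, Subgroup.orderOf_coe, Subgroup.orderOf_coe, hc]
  have hz1 : z ≠ 1 := fun e => by rw [e, orderOf_one] at hzo; exact hp.out.ne_one hzo.symm
  refine ⟨z, ((c : (P : Subgroup H)) : H).2, hz1, hzo, commute_of_primePow ((c : (P : Subgroup H)) : H).2
    fun r k y hr hy hk => ?_⟩
  by_cases hrp : r = p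
  · subst hrp
    have hyP : (⟨y, hy⟩ : H) ∈ (P : Subgroup H) := by
      haveI := P.normal_of_normalizerCondition (Group.normalizerCondition_of_isNilpotent (h := hH))
      obtain ⟨g, hg⟩ := CfsgLib.FgsB.exists_conj_mem_sylow (x := (⟨y, hy⟩ : H)) ⟨k, by rwa [Subgroup.orderOf_mk]⟩ P
      have := this.conj_mem _ hg g
      simpa [mul_assoc] using this
    have := mem_center_iff.mp c.2 ⟨_, hyP⟩
    exact (congrArg (fun w : (P : Subgroup H) => ((w : H) : G)) this).symm
  · refine commute_of_coprime hH ((c : (P : Subgroup H)) : H).2 hy ?_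
    rw [hzo, hk]
    exact Nat.Coprime.pow_right k ((Nat.coprime_primes hp.out hr).mpr (Ne.symm hrp))

/-- A maximal nilpotent subgroup of a CN-group is a Hall subgroup. -/
theorem MaxNil.hall (hCN : IsCNGroup G) {H : Subgroup G} (h : MaxNil H) :
    (Nat.card H).Coprime H.index := by
  refine Nat.coprime_of_dvd fun p hp hd hdi => ?_
  haveI := Fact.mk hp
  obtain ⟨x, hxH, hx1, hxo, hxc⟩ := exists_central_primePow h.1 hd
  -- a Sylow subgroup of `G` above that of `H`
  obtain ⟨P⟩ : Nonempty (Sylow p H) := inferInstance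
  obtain ⟨S, hS⟩ := (P.2.map H.subtype).exists_le_sylow
  haveI : Nontrivial (S : Subgroup G) := (nontrivial_iff_ne_bot _).mpr
    (S.ne_bot_of_dvd_card (hd.trans (card_subgroup_dvd_card H)))
  haveI := S.2.center_nontrivial
  obtain ⟨c, hc, hc1⟩ := (bot_or_exists_ne_one (center (S : Subgroup G))).resolve_left
    ((nontrivial_iff_ne_bot _).mp inferInstance)
  set z : G := (c : G) with hz
  have hPN : ∀ y ∈ H, ∀ k, orderOf y = p ^ k → y ∈ (S : Subgroup G) := by
    intro y hy k hk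
    haveI := P.normal_of_normalizerCondition (Group.normalizerCondition_of_isNilpotent (h := h.1))
    obtain ⟨g, hg⟩ := CfsgLib.FgsB.exists_conj_mem_sylow (x := (⟨y, hy⟩ : H)) ⟨k, by rwa [Subgroup.orderOf_mk]⟩ P
    have h2 := this.conj_mem _ hg g
    refine hS ⟨⟨y, hy⟩, ?_, rfl⟩
    show (⟨y, hy⟩ : H) ∈ (P : Subgroup H)
    simpa [mul_assoc] using (show _ ∈ (P : Subgroup H) from h2)
  have hxS : x ∈ (S : Subgroup G) := hPN x hxH 1 (by rw [pow_one, hxo])
  have hzx : Commute z x := (congrArg Subtype.val (mem_center_iff.mp hc ⟨x, hxS⟩)).symm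
  have hzH : z ∈ H := by
    rw [← h.centralizer_eq hCN hx1 hxc, mem_centralizer_singleton_iff]
    exact hzx.eq
  have hz1 : z ≠ 1 := fun e => hc1 (Subtype.ext e)
  obtain ⟨j, hj⟩ := IsPGroup.iff_orderOf.mp S.2 c
  have hzc : ∀ y ∈ H, Commute z y := commute_of_primePow hzH fun r k y hr hy hk => by
    by_cases hrp : r = p
    · subst hrp
      exact (congrArg Subtype.val (mem_center_iff.mp hc ⟨y, hPN y hy k hk⟩)).symm
    · refine commute_of_coprime h.1 hzH hy ?_
      rw [hz, Subgroup.orderOf_coe, hj, hk]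
      exact Nat.coprime_pow_primes _ _ hp hr (Ne.symm hrp)
  have hSH : (S : Subgroup G) ≤ H := by
    intro s hs
    rw [← h.centralizer_eq hCN hz1 hzc, mem_centralizer_singleton_iff]
    exact congrArg Subtype.val (mem_center_iff.mp hc ⟨s, hs⟩)
  exact S.not_dvd_index (hdi.trans (index_dvd_of_le hSH))

theorem not_dvd_index_of_dvd (hCN : IsCNGroup G) {H : Subgroup G} (h : MaxNil H) {p : ℕ}
    (hp : p.Prime) (hd : p ∣ Nat.card H) : ¬ p ∣ H.index := fun hi =>
  hp.ne_one (Nat.eq_one_of_dvd_coprimes (h.hall hCN) hd hi)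

/-- A Sylow subgroup of a group inside a subgroup of index prime to `p`. -/
theorem sylow_eq_of_le {H : Subgroup G} (hH : Group.IsNilpotent H) {p : ℕ} [Fact p.Prime]
    (S : Sylow p G) (hS : (S : Subgroup G) ≤ H) {y : G} (hy : y ∈ H) (hyp : ∃ k, orderOf y = p ^ k) :
    y ∈ (S : Subgroup G) := by
  haveI := hH
  set S' : Sylow p H := S.subtype hS
  haveI := S'.normal_of_normalizerCondition Group.normalizerCondition_of_isNilpotent
  obtain ⟨g, hg⟩ := CfsgLib.FgsB.exists_conj_mem_sylow (x := (⟨y, hy⟩ : H))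
    (by obtain ⟨k, hk⟩ := hyp; exact ⟨k, by rwa [Subgroup.orderOf_mk]⟩) S'
  have := this.conj_mem _ hg g
  have h2 : (⟨y, hy⟩ : H) ∈ (S' : Subgroup H) := by simpa [mul_assoc] using this
  exact h2

theorem exists_sylow_le (hCN : IsCNGroup G) {H : Subgroup G} (h : MaxNil H) {p : ℕ} [hp : Fact p.Prime]
    (hd : p ∣ Nat.card H) : ∃ S : Sylow p G, (S : Subgroup G) ≤ H := by
  obtain ⟨P⟩ : Nonempty (Sylow p H) := inferInstance
  refine ⟨(P.2.map H.subtype).toSylow ?_, map_subtype_le _⟩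
  rw [index_map_of_injective _ H.subtype_injective, range_subtype]
  exact hp.out.not_dvd_mul P.not_dvd_index (not_dvd_index_of_dvd hCN h hp.out hd)

/-- The centraliser of an element of prime order stays in a maximal nilpotent subgroup of
non-prime-power order. -/
theorem MaxNil.centralizer_le_of_two_primes (hCN : IsCNGroup G) {H : Subgroup G} (h : MaxNil H)
    {p q : ℕ} [hp : Fact p.Prime] [hq : Fact q.Prime] (hpq : p ≠ q) (hqd : q ∣ Nat.card H)
    {x : G} (hx : x ∈ H) (hxo : orderOf x = p) (Q : Sylow q G) (hQ : (Q : Subgroup G) ≤ H) :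
    (Q : Subgroup G) ≤ centralizer ({x} : Set G) ∧ centralizer ({x} : Set G) ≤ H := by
  have hx1 : x ≠ 1 := fun e => by rw [e, orderOf_one] at hxo; exact hp.out.ne_one hxo.symm
  set C := centralizer ({x} : Set G) with hC
  have hQC : (Q : Subgroup G) ≤ C := by
    intro y hy
    obtain ⟨j, hj⟩ := IsPGroup.iff_orderOf.mp Q.2 ⟨y, hy⟩
    rw [hC, mem_centralizer_singleton_iff]
    refine (commute_of_coprime h.1 (hQ hy) hx ?_).eq
    rw [Subgroup.orderOf_mk] at hj
    rw [hj, hxo]
    exact Nat.Coprime.pow_left j ((Nat.coprime_primes hq.out hp.out).mpr hpq.symm)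
  refine ⟨hQC, le_of_primePow fun r k y hr hy hk => ?_⟩
  by_cases hrq : r = q
  · subst hrq
    exact hQ (sylow_eq_of_le (hCN x hx1) Q hQC hy ⟨k, hk⟩)
  · obtain ⟨z, hzH, hz1, hzo, hzc⟩ := exists_central_primePow h.1 hqd
    have hzQ : z ∈ (Q : Subgroup G) := sylow_eq_of_le h.1 Q hQ hzH ⟨1, by rw [pow_one, hzo]⟩
    rw [← h.centralizer_eq hCN hz1 hzc, mem_centralizer_singleton_iff]
    refine (commute_of_coprime (hCN x hx1) hy (hQC hzQ) ?_).eq
    rw [hk, hzo]
    exact Nat.Coprime.pow_left k ((Nat.coprime_primes hr hq.out).mpr hrq)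

/-- Maximal nilpotent subgroups meeting nontrivially, one of non-prime-power order, are equal. -/
theorem MaxNil.eq_of_inter (hCN : IsCNGroup G) {H K : Subgroup G} (hH : MaxNil H) (hK : MaxNil K)
    {p q : ℕ} [hp : Fact p.Prime] [hq : Fact q.Prime] (hpq : p ≠ q) (hqH : q ∣ Nat.card H)
    (hqK : q ∣ Nat.card K) {x : G} (hxH : x ∈ H) (hxK : x ∈ K) (hxo : orderOf x = p) : H = K := by
  obtain ⟨Q, hQ⟩ := exists_sylow_le hCN hH hqH
  obtain ⟨R, hR⟩ := exists_sylow_le hCN hK hqK
  obtain ⟨hQC, -⟩ := hH.centralizer_le_of_two_primes hCN hpq hqH hxH hxo Q hQ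
  obtain ⟨-, hCK⟩ := hK.centralizer_le_of_two_primes hCN hpq hqK hxK hxo R hR
  have hQK : (Q : Subgroup G) ≤ K := hQC.trans hCK
  obtain ⟨z, hzH, hz1, hzo, hzc⟩ := exists_central_primePow hH.1 hqH
  have hzQ : z ∈ (Q : Subgroup G) := sylow_eq_of_le hH.1 Q hQ hzH ⟨1, by rw [pow_one, hzo]⟩
  have hzK : ∀ y ∈ K, Commute z y := commute_of_primePow (hQK hzQ) fun r k y hr hy hk => by
    by_cases hrq : r = q
    · subst hrq
      exact hzc y (hQ (sylow_eq_of_le hK.1 Q hQK hy ⟨k, hk⟩))
    · refine commute_of_coprime hK.1 (hQK hzQ) hy ?_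
      rw [hzo, hk]
      exact Nat.Coprime.pow_right k ((Nat.coprime_primes hq.out hr).mpr (Ne.symm hrq))
  rw [← hH.centralizer_eq hCN hz1 hzc, hK.centralizer_eq hCN hz1 hzK]

theorem exists_prime_pow_of_mem {x : G} (hx : x ≠ 1) :
    ∃ (p : ℕ) (m : ℕ), p.Prime ∧ orderOf (x ^ m) = p := by
  obtain ⟨p, hp, hd⟩ := Nat.exists_prime_and_dvd (mt orderOf_eq_one_iff.mp hx)
  exact ⟨p, orderOf x / p, hp, orderOf_pow_orderOf_div (orderOf_pos x).ne' hd⟩

theorem exists_other_prime {n : ℕ} (hn : n ≠ 1) (hn0 : n ≠ 0) (h : ¬ IsPrimePow n) (p : ℕ) :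
    ∃ q : ℕ, q.Prime ∧ q ≠ p ∧ q ∣ n := by
  by_contra hc
  push Not at hc
  have huniq : ∀ {d : ℕ}, d.Prime → d ∣ n → d = p := fun hd hdn => by
    by_contra hne
    exact hc _ hd hne hdn
  obtain ⟨r, hr, hrn⟩ := Nat.exists_prime_and_dvd hn
  have := huniq hr hrn
  subst this
  refine h ((isPrimePow_nat_iff _).mpr ⟨r, n.primeFactorsList.length, hr, ?_,
    (Nat.eq_prime_pow_of_unique_prime_dvd hn0 huniq).symm⟩)
  rw [List.length_pos_iff]
  exact fun h => by simp [Nat.primeFactorsList_eq_nil] at h; omega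

/-- A maximal nilpotent subgroup of non-prime-power order is a TI subgroup. -/
theorem MaxNil.ti (hCN : IsCNGroup G) {H : Subgroup G} (h : MaxNil H)
    (hpp : ¬ IsPrimePow (Nat.card H)) {g : G} (hne : H.map (MulAut.conj g).toMonoidHom ≠ H) :
    H ⊓ H.map (MulAut.conj g).toMonoidHom = ⊥ := by
  rw [eq_bot_iff_forall]
  intro x hx
  by_contra hx1
  obtain ⟨p, m, hp, hpo⟩ := exists_prime_pow_of_mem hx1
  have hH1 : Nat.card H ≠ 1 := fun e => hx1 (by
    have := H.eq_bot_of_card_eq e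
    exact mem_bot.mp (this ▸ hx.1))
  obtain ⟨q, hq, hqp, hqd⟩ := exists_other_prime hH1 Nat.card_pos.ne' hpp p
  haveI := Fact.mk hp
  haveI := Fact.mk hq
  refine hne (h.eq_of_inter hCN (h.map (MulAut.conj g)) hqp.symm hqd ?_ (pow_mem hx.1 m)
    (pow_mem hx.2 m) hpo).symm
  rwa [card_map_of_injective (MulAut.conj g).injective]

/-- Elements normalising a maximal nilpotent subgroup and centralising one of its nontrivial
elements lie in it. -/
theorem MaxNil.mem_of_commute (hCN : IsCNGroup G) {H : Subgroup G} (h : MaxNil H) {x y : G}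
    (hx : x ∈ H) (hx1 : x ≠ 1) (hy : y ∈ normalizer (H : Set G)) (hxy : Commute y x) : y ∈ H := by
  suffices normalizer (H : Set G) ⊓ centralizer ({x} : Set G) ≤ H from
    this ⟨hy, mem_centralizer_singleton_iff.mpr hxy.eq⟩
  refine le_of_primePow fun r k y hr hy hk => ?_
  haveI := Fact.mk hr
  by_cases hd : r ∣ Nat.card H
  · obtain ⟨S, hS⟩ := exists_sylow_le hCN h hd
    -- the Sylow subgroup is normal in the normalizer
    set N := normalizer (H : Set G)
    have hle : H ≤ N := le_normalizer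
    haveI : (H.subgroupOf N).Normal := normal_subgroupOf_of_le_normalizer le_rfl
    have hidx : ¬ r ∣ (H.subgroupOf N).index := fun hdi =>
      not_dvd_index_of_dvd hCN h hr hd (hdi.trans (relIndex_dvd_index_of_le hle))
    have h1 : orderOf (QuotientGroup.mk' (H.subgroupOf N) ⟨y, hy.1⟩) = 1 := by
      refine Nat.eq_one_of_dvd_coprimes ((hr.coprime_iff_not_dvd.mpr hidx).pow_left k) ?_ ?_
      · refine (orderOf_map_dvd _ _).trans ?_
        rw [Subgroup.orderOf_mk, hk]
      · rw [index_eq_card]; exact orderOf_dvd_natCard _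
    rw [orderOf_eq_one_iff, QuotientGroup.mk'_apply, QuotientGroup.eq_one_iff] at h1
    exact h1
  · have hne : H ≠ ⊥ := fun e => hx1 (mem_bot.mp (e ▸ hx))
    obtain ⟨z, hzH, hz1, hzc⟩ := exists_central h.1 hne
    rw [← h.centralizer_eq hCN hz1 hzc, mem_centralizer_singleton_iff]
    have hzx : z ∈ centralizer ({x} : Set G) := mem_centralizer_singleton_iff.mpr (hzc x hx).eq
    refine (commute_of_coprime (hCN x hx1) hy.2 hzx ?_).eq
    rw [hk]
    exact Nat.Coprime.pow_left k (hr.coprime_iff_not_dvd.mpr fun h' =>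
      hd (h'.trans (orderOf_dvd_natCard _ hzH)))

theorem MaxNil.centralizer_le (hCN : IsCNGroup G) {H : Subgroup G} (h : MaxNil H)
    (hTI : ∀ g : G, H.map (MulAut.conj g).toMonoidHom ≠ H → H ⊓ H.map (MulAut.conj g).toMonoidHom = ⊥)
    {x : G} (hx : x ∈ H) (hx1 : x ≠ 1) : centralizer ({x} : Set G) ≤ H := by
  intro y hy
  rw [mem_centralizer_singleton_iff] at hy
  refine h.mem_of_commute hCN hx hx1 ?_ hy
  rw [mem_normalizer_iff_map_conj_eq]
  by_contra hne
  have hmem : x ∈ H ⊓ H.map (MulAut.conj y).toMonoidHom :=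
    ⟨hx, x, hx, by simp [hy]⟩
  rw [hTI y hne, mem_bot] at hmem
  exact hx1 hmem

theorem MaxNil.fpf (hCN : IsCNGroup G) {N : Subgroup G} [N.Normal] (h : MaxNil N) {e : G}
    (he : e ∉ N) {x : G} (hx : x ∈ N) (hxe : Commute e x) : x = 1 := by
  by_contra hx1
  exact he (h.mem_of_commute hCN hx hx1 (by rw [normalizer_eq_top]; exact mem_top e) hxe)

theorem MaxNil.fittingHall_eq (hCN : IsCNGroup G) {N : Subgroup G} [N.Normal] (h : MaxNil N) :
    fittingHall G = N :=
  h.2 _ (CfsgLib.OddOrder.fittingHall_nilpotent_hall G).1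
    (CfsgLib.OddOrder.le_fittingHall h.1 (h.hall hCN))

/-- A complement of a normal maximal nilpotent subgroup. -/
theorem MaxNil.exists_complement (hCN : IsCNGroup G) {N : Subgroup G} [N.Normal] (h : MaxNil N) :
    ∃ E : Subgroup G, IsComplement' N E ∧
      (∀ e ∈ E, e ≠ 1 → N ⊓ centralizer ({e} : Set G) = ⊥) ∧
      (N ≠ ⊥ → Group.IsNilpotent E) ∧ CfsgLib.Base.IsFPF E N := by
  obtain ⟨E, hE⟩ := Subgroup.exists_right_complement'_of_coprime (N := N) (h.hall hCN)
  have hfpf : ∀ e ∈ E, e ≠ 1 → N ⊓ centralizer ({e} : Set G) = ⊥ := by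
    intro e he he1
    rw [eq_bot_iff_forall]
    rintro x ⟨hx, hxe⟩
    refine h.fpf hCN (fun heN => he1 ?_) hx (mem_centralizer_singleton_iff.mp hxe).symm
    exact mem_bot.mp (hE.disjoint.le_bot ⟨heN, he⟩)
  have hF : CfsgLib.Base.IsFPF E N := ⟨by rw [normalizer_eq_top]; exact le_top, hfpf⟩
  refine ⟨E, hE, hfpf, fun hN => ?_, hF⟩
  by_cases hEb : E = ⊥
  · rw [hEb]; infer_instance
  obtain ⟨z, hz, hz1⟩ := (bot_or_exists_ne_one _).resolve_left (hF.center_ne_bot hN hEb)
  haveI := hCN (z : G) (fun e => hz1 (Subtype.ext e))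
  refine isNilpotent_of_le (K := centralizer ({(z : G)} : Set G)) fun y hy => ?_
  rw [mem_centralizer_singleton_iff]
  exact congrArg Subtype.val (mem_center_iff.mp hz ⟨y, hy⟩)

theorem quotient_nilpotent (hCN : IsCNGroup G) {N : Subgroup G} [N.Normal] (h : MaxNil N)
    (hN : N ≠ ⊥) : Group.IsNilpotent (G ⧸ N) := by
  obtain ⟨E, hE, -, hEn, -⟩ := h.exists_complement hCN
  haveI := hEn hN
  refine Group.nilpotent_of_surjective ((QuotientGroup.mk' N).comp E.subtype) fun q => ?_
  obtain ⟨g, rfl⟩ := QuotientGroup.mk'_surjective N q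
  obtain ⟨⟨⟨a, ha⟩, ⟨b, hb⟩⟩, hab⟩ := hE.2 g
  refine ⟨⟨b, hb⟩, ?_⟩
  rw [← hab]
  show QuotientGroup.mk' N b = QuotientGroup.mk' N (a * b)
  rw [map_mul, show QuotientGroup.mk' N a = 1 from (QuotientGroup.eq_one_iff a).mpr ha, one_mul]

/-- The centraliser of a normal subgroup of a CN-group is nilpotent, inside the Fitting subgroup. -/
theorem centralizer_le_fitting (hCN : IsCNGroup G) {Z : Subgroup G} [Z.Normal] (hZ : Z ≠ ⊥) :
    centralizer (Z : Set G) ≤ fittingSubgroup G := by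
  obtain ⟨z, hz, hz1⟩ := (bot_or_exists_ne_one Z).resolve_left hZ
  haveI := hCN z hz1
  haveI := isNilpotent_of_le (H := centralizer (Z : Set G)) (K := centralizer ({z} : Set G))
    fun y hy => mem_centralizer_singleton_iff.mpr (mem_centralizer_iff.mp hy z hz).symm
  exact CfsgLib.Base.le_fittingSubgroup inferInstance

theorem normal_sylow_cases (hCN : IsCNGroup G) {p : ℕ} [hp : Fact p.Prime] (P : Sylow p G)
    (hP1 : (P : Subgroup G) ≠ ⊥) (hPn : (P : Subgroup G).Normal) :
    MaxNil (fittingSubgroup G) := by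
  haveI := hPn
  obtain ⟨H, hFH, hH⟩ := exists_maxNil_le _ (CfsgLib.Base.isNilpotent_fittingSubgroup G)
  have hPF : (P : Subgroup G) ≤ fittingSubgroup G :=
    CfsgLib.Base.le_fittingSubgroup (CfsgLib.Base.isNilpotent_of_isPGroup P.2)
  suffices H ≤ fittingSubgroup G by rw [le_antisymm hFH this]; exact hH
  refine le_of_primePow fun r k y hr hy hk => ?_
  by_cases hrp : r = p
  · subst hrp
    obtain ⟨g, hg⟩ := CfsgLib.FgsB.exists_conj_mem_sylow (x := y) ⟨k, hk⟩ P
    refine hPF ?_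
    have := hPn.conj_mem _ hg g
    simpa [mul_assoc] using this
  · refine centralizer_le_fitting hCN hP1 (mem_centralizer_iff.mpr fun a ha => ?_)
    obtain ⟨j, hj⟩ := IsPGroup.iff_orderOf.mp P.2 ⟨a, ha⟩
    rw [Subgroup.orderOf_mk] at hj
    refine (commute_of_coprime hH.1 (hFH (hPF ha)) hy ?_).eq
    rw [hj, hk]
    exact Nat.coprime_pow_primes _ _ hp.out hr (Ne.symm hrp)

/-- A solvable CN-group has a normal maximal nilpotent subgroup or is a three-step group. -/
theorem solvable_cases (hCN : IsCNGroup G) [Group.IsSolvable G] :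
    MaxNil (fittingSubgroup G) ∨ ∃ p : ℕ, p.Prime ∧ IsThreeStepGroup p G := by
  classical
  obtain ⟨H, hFH, hH⟩ := exists_maxNil_le _ (CfsgLib.Base.isNilpotent_fittingSubgroup G)
  by_cases heq : H = fittingSubgroup G
  · exact Or.inl (heq ▸ hH)
  right
  rcases subsingleton_or_nontrivial G with hs | hn
  · exact absurd (Subsingleton.elim _ _) heq
  set F := fittingSubgroup G with hF
  haveI hFn := CfsgLib.Base.isNilpotent_fittingSubgroup G
  have hFne : F ≠ ⊥ := CfsgLib.Base.fittingSubgroup_ne_bot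
  obtain ⟨p, hp, hpd⟩ := Nat.exists_prime_and_dvd (fun e => hFne (F.eq_bot_of_card_eq e))
  haveI := Fact.mk hp
  set O := pCore p G with hO
  have hOF : O ≤ F := CfsgLib.Base.pCore_le_fittingSubgroup p G
  -- a second prime would make `F` maximal nilpotent
  have hkey : ∀ r : ℕ, r.Prime → pCore r G ≠ ⊥ → ∀ s k : ℕ, ∀ y ∈ H, s.Prime → s ≠ r →
      orderOf y = s ^ k → y ∈ F := by
    intro r hr hne s k y hy hs hsr hk
    haveI := Fact.mk hr
    refine centralizer_le_fitting hCN hne (mem_centralizer_iff.mpr fun a ha => ?_)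
    obtain ⟨j, hj⟩ := IsPGroup.iff_orderOf.mp (CfsgLib.Base.isPGroup_pCore r G) ⟨a, ha⟩
    rw [Subgroup.orderOf_mk] at hj
    refine (commute_of_coprime hH.1 (hFH (CfsgLib.Base.pCore_le_fittingSubgroup r G ha)) hy ?_).eq
    rw [hj, hk]
    exact Nat.coprime_pow_primes _ _ hr hs (Ne.symm hsr)
  have hone : ∀ r : ℕ, r.Prime → r ∣ Nat.card F → pCore r G ≠ ⊥ := by
    intro r hr hd h
    haveI := Fact.mk hr
    obtain ⟨R⟩ : Nonempty (Sylow r F) := inferInstance
    haveI : (R : Subgroup F).Normal := R.normal_of_normalizerCondition Group.normalizerCondition_of_isNilpotent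
    haveI := Sylow.characteristic_of_normal R inferInstance
    haveI : ((R : Subgroup F).map F.subtype).Normal := inferInstance
    have := CfsgLib.Base.le_pCore (R.2.map F.subtype)
    rw [h, le_bot_iff, map_eq_bot_iff_of_injective _ F.subtype_injective] at this
    exact R.ne_bot_of_dvd_card hd this
  have hOne : O ≠ ⊥ := hone p hp hpd
  have honly : ∀ r : ℕ, r.Prime → r ∣ Nat.card F → r = p := by
    intro r hr hd
    by_contra hrp
    refine heq (le_antisymm (le_of_primePow fun s k y hs hy hk => ?_) hFH)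
    by_cases hsp : s = p
    · exact hkey r hr (hone r hr hd) s k y hy hs (hsp ▸ Ne.symm hrp) hk
    · exact hkey p hp hOne s k y hy hs hsp hk
  have hFp : IsPGroup p F := by
    refine IsPGroup.of_card (n := (Nat.card F).primeFactorsList.length) ?_
    exact Nat.eq_prime_pow_of_unique_prime_dvd Nat.card_pos.ne' fun {d} hd hdd => honly d hd hdd
  have hFO : F = O := le_antisymm (CfsgLib.Base.le_pCore hFp) hOF
  have hCF : centralizer (F : Set G) ≤ F := CfsgLib.Base.centralizer_fittingSubgroup_le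
  -- `H` is a Sylow subgroup
  have hHp : IsPGroup p H := by
    intro y
    obtain ⟨k, hk⟩ : ∃ k, orderOf (y : G) = p ^ k := by
      refine ⟨_, Nat.eq_prime_pow_of_unique_prime_dvd (orderOf_pos _).ne' fun {d} hd hdd => ?_⟩
      by_contra hdp
      haveI := Fact.mk hd
      have hw : orderOf ((y : G) ^ (orderOf (y : G) / d)) = d ^ 1 := by
        rw [pow_one]; exact orderOf_pow_orderOf_div (orderOf_pos _).ne' hdd
      have hwF := hkey p hp hOne d 1 _ (pow_mem y.2 _) hd hdp hw
      obtain ⟨j, hj⟩ := IsPGroup.iff_orderOf.mp hFp ⟨_, hwF⟩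
      rw [Subgroup.orderOf_mk, hw, pow_one] at hj
      exact hdp ((Nat.prime_dvd_prime_iff_eq hd hp).mp (hd.dvd_of_dvd_pow (dvd_of_eq hj)))
    exact ⟨k, Subtype.ext (hk ▸ pow_orderOf_eq_one (y : G))⟩
  have hnotSyl : ∀ P : Sylow p G, (P : Subgroup G) ≠ F := fun P hP => heq
    ((P.3 hHp (hP.symm ▸ hFH)).trans hP)
  -- the Fitting subgroup has no nontrivial fixed point of a p'-element
  have hfix : ∀ k : G, ¬ p ∣ orderOf k → ∀ f ∈ F, f ≠ 1 → Commute k f → k = 1 := by
    intro k hk f hf hf1 hkf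
    set Z := (center F).map F.subtype with hZ
    haveI : Z.Normal := inferInstance
    have hZne : Z ≠ ⊥ := by
      rw [hZ, Ne, map_eq_bot_iff_of_injective _ F.subtype_injective]
      haveI : Nontrivial F := (nontrivial_iff_ne_bot F).mpr hFne
      exact Group.IsNilpotent.center_ne_bot (G := ↥F)
    have hkF : k ∈ F := by
      refine centralizer_le_fitting hCN hZne (mem_centralizer_iff.mpr ?_)
      rintro _ ⟨c, hc, rfl⟩
      have hcf : (c : G) ∈ centralizer ({f} : Set G) := mem_centralizer_singleton_iff.mpr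
        (congrArg Subtype.val (mem_center_iff.mp hc ⟨f, hf⟩)).symm
      obtain ⟨j, hj⟩ := IsPGroup.iff_orderOf.mp hFp c
      refine (commute_of_coprime (hCN f hf1) hcf (mem_centralizer_singleton_iff.mpr hkf.eq) ?_).eq
      rw [Subgroup.orderOf_coe, hj]
      exact Nat.Coprime.pow_left j (hp.coprime_iff_not_dvd.mpr hk)
    obtain ⟨j, hj⟩ := IsPGroup.iff_orderOf.mp hFp ⟨k, hkF⟩
    rw [Subgroup.orderOf_mk] at hj
    rcases j with _ | j
    · rwa [pow_zero, orderOf_eq_one_iff] at hj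
    · exact absurd (hj ▸ dvd_pow_self p (Nat.succ_ne_zero j)) hk
  obtain ⟨K, hK, -⟩ := CfsgLib.Coprime.hallD_of_solvable (G := G) {r : ℕ | r ≠ p}
  have hKp : ¬ p ∣ Nat.card K := fun h => hK.1 p hp h rfl
  have hKi : ∃ n, K.index = p ^ n := ⟨_, Nat.eq_prime_pow_of_unique_prime_dvd
    Subgroup.index_ne_zero_of_finite fun {d} hd hdd => by
      by_contra hdp; exact hK.2 d hd hdp hdd⟩
  have hKfpf : CfsgLib.Base.IsFPF K F := by
    refine ⟨by rw [normalizer_eq_top]; exact le_top, fun a ha ha1 => ?_⟩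
    rw [eq_bot_iff_forall]
    rintro f ⟨hf, hfa⟩
    by_contra hf1
    exact ha1 (hfix a (fun h => hKp (h.trans (orderOf_dvd_natCard _ ha))) f hf hf1
      (mem_centralizer_singleton_iff.mp hfa).symm)
  have hKne : K ≠ ⊥ := by
    intro hb
    obtain ⟨n, hn⟩ := hKi
    rw [hb, index_bot] at hn
    have hGp : IsPGroup p G := IsPGroup.of_card hn
    obtain ⟨P⟩ : Nonempty (Sylow p G) := inferInstance
    have hFt : F = ⊤ := by
      rw [hF, CfsgLib.Base.fittingSubgroup_eq_top_iff]; exact hGp.isNilpotent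
    exact hnotSyl P (hFt ▸ top_le_iff.mp (le_of_eq_of_le rfl
      ((P.3 (IsPGroup.to_subgroup hGp ⊤) le_top).symm ▸ le_rfl)))
  haveI hKnil : Group.IsNilpotent K := by
    obtain ⟨z, hz, hz1⟩ := (bot_or_exists_ne_one _).resolve_left (hKfpf.center_ne_bot hFne hKne)
    haveI := hCN (z : G) (fun e => hz1 (Subtype.ext e))
    refine isNilpotent_of_le (K := centralizer ({(z : G)} : Set G)) fun y hy => ?_
    rw [mem_centralizer_singleton_iff]
    exact congrArg Subtype.val (mem_center_iff.mp hz ⟨y, hy⟩)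
  -- pass to the quotient
  set f := QuotientGroup.mk' F with hf
  have hfs : Function.Surjective f := QuotientGroup.mk'_surjective F
  have hCNq : IsCNGroup (G ⧸ F) := isCNGroup_quotient_pGroup hCN hFp hFne
  set Ab := fittingSubgroup (G ⧸ F) with hAb
  haveI := CfsgLib.Base.isNilpotent_fittingSubgroup (G ⧸ F)
  have hcore : pCore p (G ⧸ F) = ⊥ := by
    have hF' : F = pCore p G := hFO
    rw [CfsgLib.Base.pCore_quotient F hFp, ← hF', QuotientGroup.map_mk'_self]
  have hAbp : ¬ p ∣ Nat.card Ab := by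
    intro hd
    obtain ⟨R⟩ : Nonempty (Sylow p Ab) := inferInstance
    haveI : (R : Subgroup Ab).Normal := R.normal_of_normalizerCondition Group.normalizerCondition_of_isNilpotent
    haveI := Sylow.characteristic_of_normal R inferInstance
    haveI : ((R : Subgroup Ab).map Ab.subtype).Normal := inferInstance
    have := CfsgLib.Base.le_pCore (R.2.map Ab.subtype)
    rw [hcore, le_bot_iff, map_eq_bot_iff_of_injective _ Ab.subtype_injective] at this
    exact R.ne_bot_of_dvd_card hd this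
  set Kb := K.map f with hKb
  have hKbi : ∃ n, Kb.index = p ^ n := by
    obtain ⟨n, hn⟩ := hKi
    obtain ⟨m, -, hm⟩ := (Nat.dvd_prime_pow hp).mp (hn ▸ index_map_dvd K hfs)
    exact ⟨m, hm⟩
  haveI hAbn : Ab.Normal := CfsgLib.Base.fittingSubgroup_normal' _
  have hAbKb : Ab ≤ Kb := by
    obtain ⟨n, hn⟩ := hKbi
    have h1 : Kb.relIndex Ab ∣ Nat.card Ab := relIndex_dvd_card _ _
    have h2 : Kb.relIndex Ab ∣ p ^ n := by
      have hc := CfsgLib.Base.card_sup_mul_card_inf Kb Ab
      have hr : Nat.card ↥(Kb ⊓ Ab) * Kb.relIndex Ab = Nat.card Ab := by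
        rw [← inf_relIndex_right, ← CfsgLib.Base.card_subgroupOf (inf_le_right : Kb ⊓ Ab ≤ Ab)]
        exact card_mul_index _
      have hs : Nat.card ↥(Kb ⊔ Ab) = Nat.card Kb * Kb.relIndex Ab := by
        refine Nat.eq_of_mul_eq_mul_right (Nat.card_pos (α := ↥(Kb ⊓ Ab))) ?_
        rw [hc, mul_assoc, mul_comm (Kb.relIndex Ab), hr]
      have hd := card_subgroup_dvd_card (Kb ⊔ Ab)
      rw [hs, ← card_mul_index Kb, hn] at hd
      exact (Nat.mul_dvd_mul_iff_left Nat.card_pos).mp hd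
    exact relIndex_eq_one.mp (Nat.eq_one_of_dvd_coprimes
      ((hp.coprime_iff_not_dvd.mpr hAbp).pow_left n).symm h1 h2)
  have hCAb : centralizer (Ab : Set (G ⧸ F)) ≤ Ab := CfsgLib.Base.centralizer_fittingSubgroup_le
  have hnn : ¬ Group.IsNilpotent (G ⧸ F) := by
    intro hnil
    have htop : Ab = ⊤ := (CfsgLib.Base.fittingSubgroup_eq_top_iff (G := G ⧸ F)).mpr hnil
    have hidx : ¬ p ∣ F.index := by
      intro hd
      apply hAbp
      rwa [htop, Subgroup.card_top, ← index_eq_card]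
    exact hnotSyl (hFp.toSylow hidx) rfl
  have hKF : ∀ a ∈ K, f a = 1 → a = 1 := by
    intro a ha hfa
    have haF : a ∈ F := (QuotientGroup.eq_one_iff a).mp hfa
    by_contra ha1
    obtain ⟨j, hj⟩ := IsPGroup.iff_orderOf.mp hFp ⟨a, haF⟩
    rw [Subgroup.orderOf_mk] at hj
    rcases j with _ | j
    · rw [pow_zero, orderOf_eq_one_iff] at hj
      exact ha1 hj
    · exact hKp ((hj ▸ dvd_pow_self p (Nat.succ_ne_zero j)).trans (orderOf_dvd_natCard _ ha))
  have hKodd : Odd (Nat.card K) := by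
    rw [← Nat.not_even_iff_odd, even_iff_two_dvd]
    intro h2
    haveI := Fact.mk Nat.prime_two
    obtain ⟨⟨t, htK⟩, ht⟩ := exists_prime_orderOf_dvd_card' 2 h2
    rw [Subgroup.orderOf_mk] at ht
    have ht1 : t ≠ 1 := fun e => by rw [e, orderOf_one] at ht; omega
    have ht2 : t * t = 1 := by rw [← pow_two, ← ht]; exact pow_orderOf_eq_one t
    have huniq : ∀ s ∈ K, s ≠ 1 → s * s = 1 → s = t := fun s hs hs1 hs2 =>
      hKfpf.involution_unique hFne hs hs1 hs2 htK ht1 ht2
    have htAb : f t ∈ Ab := by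
      refine hCAb (mem_centralizer_iff.mpr fun w hw => ?_)
      obtain ⟨b, hb, rfl⟩ := hAbKb hw
      rw [← map_mul, ← map_mul]
      congr 1
      have h := huniq (b * t * b⁻¹) (K.mul_mem (K.mul_mem hb htK) (K.inv_mem hb))
        (fun e => ht1 (by simpa [mul_assoc] using congrArg (fun w => b⁻¹ * w * b) e))
        (by rw [show b * t * b⁻¹ * (b * t * b⁻¹) = b * (t * t) * b⁻¹ by group, ht2]; group)
      exact mul_inv_eq_iff_eq_mul.mp h
    refine hnn ?_
    haveI := hCNq (f t) (fun e => ht1 (hKF t htK e))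
    refine (Group.isNilpotent_congr (topEquiv (G := G ⧸ F))).mp
      (isNilpotent_of_le (K := centralizer ({f t} : Set (G ⧸ F))) fun g _ => ?_)
    rw [mem_centralizer_singleton_iff]
    obtain ⟨b, hb, hfb⟩ := hAbKb (hAbn.conj_mem _ htAb g)
    have hb2 : b * b = 1 := hKF _ (K.mul_mem hb hb) (by
      rw [map_mul, hfb, show g * f t * g⁻¹ * (g * f t * g⁻¹) = g * (f t * f t) * g⁻¹ by group,
        ← map_mul, ht2, map_one]
      group)
    have hb1 : b ≠ 1 := fun e => by
      rw [e, map_one] at hfb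
      exact ht1 (hKF t htK (by
        have h := congrArg (fun w => g⁻¹ * w * g) hfb.symm
        simpa [mul_assoc] using h))
    rw [huniq b hb hb1 hb2] at hfb
    exact (mul_inv_eq_iff_eq_mul.mp hfb.symm)
  haveI : IsZGroup K := ⟨fun r hr R => by
    haveI := Fact.mk hr
    refine (hKfpf.isCyclic_or_quaternion hFne (R : Subgroup K) R.isPGroup').resolve_right ?_
    rintro ⟨rfl, n, -, ⟨e⟩⟩
    have h4 := card_subgroup_dvd_card (R : Subgroup K)
    rw [Nat.card_congr e.toEquiv] at h4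
    haveI : NeZero (2 ^ n) := ⟨pow_ne_zero n two_ne_zero⟩
    rw [Nat.card_eq_fintype_card, QuaternionGroup.card] at h4
    exact (Nat.not_even_iff_odd.mpr hKodd) (even_iff_two_dvd.mpr
      ((Dvd.dvd.mul_right (by norm_num : (2 : ℕ) ∣ 4) _).trans h4))⟩
  haveI hKcyc : IsCyclic K := inferInstance
  have hKcomm : ∀ x ∈ K, ∀ y ∈ K, Commute x y := fun x hx y hy => by
    letI := IsCyclic.commGroup (α := K)
    exact congrArg Subtype.val (mul_comm (⟨x, hx⟩ : K) ⟨y, hy⟩)
  have hKbAb : Kb = Ab := by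
    refine le_antisymm ?_ hAbKb
    rintro _ ⟨x, hx, rfl⟩
    refine hCAb (mem_centralizer_iff.mpr fun w hw => ?_)
    obtain ⟨y, hy, rfl⟩ := hAbKb hw
    rw [← map_mul, ← map_mul, (hKcomm y hy x hx).eq]
  have hsup : F ⊔ K = Ab.comap f := by
    rw [← hKbAb, hKb, hf, CfsgLib.Base.comap_map_mk']
    first | rfl | exact sup_comm _ _
  refine ⟨p, hp, ?_⟩
  show pCore p G ≠ ⊥ ∧ _
  refine ⟨hOne, K, hKne, hKcyc, hKodd, (hp.coprime_iff_not_dvd.mpr hKp).symm, ?_⟩
  rw [← hO, ← hFO, hsup]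
  refine ⟨inferInstance, fun htop => hnn ?_, ?_, hKfpf.2, ?_⟩
  · have : Ab = ⊤ := by
      rw [← comap_top f] at htop
      exact comap_injective hfs htop
    rw [hAb] at this
    exact CfsgLib.Base.fittingSubgroup_eq_top_iff.mp this
  · rw [index_comap_of_surjective _ hfs, ← hKbAb]
    exact hKbi
  intro x hx a ha ha1 hxa
  refine hx ?_
  show f x ∈ Ab
  have hca : f x ∈ centralizer ({f a} : Set (G ⧸ F)) := by
    rw [mem_centralizer_singleton_iff]
    have h1 : f (x * a * x⁻¹ * a⁻¹) = 1 := (QuotientGroup.eq_one_iff _).mpr hxa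
    rw [map_mul, map_mul, map_mul, map_inv, map_inv, mul_inv_eq_one, mul_inv_eq_iff_eq_mul] at h1
    exact h1
  haveI := hCNq (f a) (fun e => ha1 (hKF a ha e))
  suffices centralizer ({f a} : Set (G ⧸ F)) ≤ Ab from this hca
  refine le_of_primePow fun s k y hs hy hk => ?_
  by_cases hsp : s = p
  · subst hsp
    refine hCAb (mem_centralizer_iff.mpr fun w hw => ?_)
    have hwC : w ∈ centralizer ({f a} : Set (G ⧸ F)) := by
      rw [← hKbAb] at hw
      obtain ⟨b, hb, rfl⟩ := hw
      rw [mem_centralizer_singleton_iff, ← map_mul, ← map_mul, (hKcomm b hb a ha).eq]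
    refine (commute_of_coprime inferInstance hwC hy ?_).eq
    rw [hk]
    exact (Nat.Coprime.coprime_dvd_right (orderOf_dvd_natCard _ hw)
      ((hp.coprime_iff_not_dvd.mpr hAbp).pow_left k)).symm
  · obtain ⟨n, hn⟩ := hKbi
    have h1 : orderOf (QuotientGroup.mk' Ab y) = 1 := by
      refine Nat.eq_one_of_dvd_coprimes (Nat.coprime_pow_primes k n hs hp hsp) ?_ ?_
      · exact (orderOf_map_dvd _ _).trans (by rw [hk])
      · rw [← hn, hKbAb, index_eq_card]; exact orderOf_dvd_natCard _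
    rwa [orderOf_eq_one_iff, QuotientGroup.mk'_apply, QuotientGroup.eq_one_iff] at h1

/-- A fixed-point-free complement is a Frobenius complement. -/
theorem isFrobeniusComplement_of_fpf {N E : Subgroup G} [N.Normal] (hc : IsComplement' N E)
    (hN : N ≠ ⊥) (hE : E ≠ ⊥)
    (hfpf : ∀ e ∈ E, e ≠ 1 → N ⊓ centralizer ({e} : Set G) = ⊥) : IsFrobeniusComplement E := by
  refine ⟨hE, fun hT => hN ?_, fun g hg => ?_⟩
  · rw [← disjoint_top, ← hT]; exact hc.disjoint
  rw [eq_bot_iff_forall]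
  rintro x ⟨hxE, hxg⟩
  replace hxg : x ∈ MulAut.conj g • E := hxg
  rw [CfsgLib.Base.Frobenius.mem_conj_iff] at hxg
  obtain ⟨⟨⟨n, hn⟩, ⟨e, he⟩⟩, hne⟩ := hc.2 g
  simp only at hne
  have hn1 : n ≠ 1 := fun h => hg (by rw [← hne, h, one_mul]; exact he)
  have hy : n⁻¹ * x * n ∈ E := by
    have := E.mul_mem (E.mul_mem he hxg) (E.inv_mem he)
    rwa [← hne, show e * ((n * e)⁻¹ * x * (n * e)) * e⁻¹ = n⁻¹ * x * n by group] at this
  have hmem : x⁻¹ * (n⁻¹ * x * n) ∈ N := by
    rw [show x⁻¹ * (n⁻¹ * x * n) = x⁻¹ * n⁻¹ * x * n by group]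
    exact N.mul_mem (by simpa using (inferInstance : N.Normal).conj_mem _ (N.inv_mem hn) x⁻¹) hn
  have heq : n⁻¹ * x * n = x := by
    have := mem_bot.mp (hc.disjoint.le_bot ⟨hmem, E.mul_mem (E.inv_mem hxE) hy⟩)
    rwa [inv_mul_eq_one, eq_comm] at this
  by_contra hx1
  have : n ∈ N ⊓ centralizer ({x} : Set G) := ⟨hn, mem_centralizer_singleton_iff.mpr (by
    calc n * x = n * (n⁻¹ * x * n) := by rw [heq]
      _ = x * n := by group)⟩
  rw [hfpf x hxE hx1, mem_bot] at this
  exact hn1 this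

end CfsgLib.CNGroups
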